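import Groth.Agent.EtQC.Serre.Glob
import Groth.Agent.EtQC.ClosedQC
import Groth.Agent.EtQC.ClosedEquiv
import Groth.Agent.EtQC.SuppPow
import Groth.Agent.EtQC.Cartan
import Groth.Agent.AlgSpDec.QCohIdeal
import Groth.Agent.AlgSpDec.RedInduced
import Groth.Agent.AlgSpDec.IdealFactor
import Groth.Agent.AlgSpDec.OnePointGeneral
import Groth.Agent.AlgSpDec.LimDescentRep
import Groth.Agent.AlgSpDec.MonoTfae

/-!
# A non-zero quasi-coherent module has a non-zero section when the first cohomology vanishes
-/

set_option autoImplicit false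
set_option backward.isDefEq.respectTransparency false
set_option backward.isDefEq.respectTransparency.types false

universe u

set_option maxHeartbeats 800000

open CategoryTheory CategoryTheory.Limits AlgebraicGeometry Opposite AlgSp
open scoped TensorProduct

namespace Groth.Agent.EtQC.Serre

section Alg

variable {A B : Type*} [CommRing A] [CommRing B] [Algebra A B] [Module.Flat A B] {M : Type*} [AddCommGroup M]
  [Module A M] {k : ℕ}

/-- The kernel of multiplication on finitely many elements extends along flat maps. -/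
theorem mem_map_of_tmul (m : Fin k → M) (b : B) (h : ∀ i, b ⊗ₜ[A] m i = 0) :
    b ∈ Ideal.map (algebraMap A B) (LinearMap.ker (LinearMap.pi fun i => LinearMap.toSpanSingleton A M (m i))) := by
  classical
  let μ : A →ₗ[A] (Fin k → M) := LinearMap.pi fun i => LinearMap.toSpanSingleton A M (m i)
  have hz : μ.lTensor B (b ⊗ₜ 1) = 0 := by
    refine (TensorProduct.piRight A A B fun _ : Fin k => M).injective (funext fun i => ?_)
    rw [map_zero, Pi.zero_apply, LinearMap.lTensor_tmul, TensorProduct.piRight_apply, TensorProduct.piRightHom_tmul]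
    simp [μ, h i]
  obtain ⟨w, hw⟩ := (Module.Flat.lTensor_exact B (LinearMap.exact_subtype_ker_map μ) (b ⊗ₜ 1)).1 hz
  have e : TensorProduct.rid A B ((LinearMap.ker μ).subtype.lTensor B w) = b := by
    rw [hw, TensorProduct.rid_tmul, one_smul]
  rw [← e]
  clear hw e hz
  induction w using TensorProduct.induction_on with
  | zero => simp
  | add x y hx hy => rw [map_add, map_add]; exact add_mem hx hy
  | tmul c a =>
    rw [LinearMap.lTensor_tmul, TensorProduct.rid_tmul, Algebra.smul_def]
    exact Ideal.mul_mem_right _ _ (Ideal.mem_map_of_mem _ a.2)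

end Alg

variable {S : Scheme.{u}} {X : Sp S}

/-- The annihilators of the sections on affine objects. -/
noncomputable def annIdeal (M : ModEt X) (hM : BCAll M) : IdealEt X where
  ideal E _ := Module.annihilator (Fn E) (sectModEt M E)
  map_le {E E'} g hE hE' := by
    haveI := hE
    letI := (fmap g).toAlgebra
    rw [Ideal.map_le_iff_le_comap]
    intro a ha
    rw [Ideal.mem_comap, Module.mem_annihilator]
    intro y
    obtain ⟨z, rfl⟩ := (hM E hE E' g hE').2 y
    show fmap g a • _ = (0 : sectModEt M E')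
    induction z using TensorProduct.induction_on with
    | zero => simp
    | add x y hx hy => rw [map_add, smul_add, hx, hy, add_zero]
    | tmul b s => rw [gam_tmul, smul_comm, ← res_smul, Module.mem_annihilator.1 ha s, map_zero, smul_zero]

theorem isQCoh_annIdeal (M : ModEt X) (hM : BCAll M)
    (hfin : ∀ E : EtOver X, IsAffine E.obj.left.left → Module.Finite (Fn E) (sectModEt M E)) :
    (annIdeal M hM).IsQCoh := by
  intro E E' g hE hE' b hb
  haveI := hE
  haveI := hfin E hE
  letI := (fmap g).toAlgebra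
  haveI : Module.Flat (Fn E) (Fn E') := flat_fmap g
  obtain ⟨k, m, hm⟩ := Module.Finite.exists_fin (R := Fn E) (M := sectModEt M E)
  have h := mem_map_of_tmul (B := Fn E') m b fun i => (hM E hE E' g hE').1 (by
    rw [gam_tmul, map_zero, RingHom.id_apply]
    exact Module.mem_annihilator.1 hb _)
  refine Ideal.map_mono ?_ h
  intro a ha
  show a ∈ Module.annihilator (Fn E) (sectModEt M E)
  rw [Module.mem_annihilator]
  intro s
  have hs : s ∈ Submodule.span (Fn E) (Set.range m) := hm ▸ trivial
  induction hs using Submodule.span_induction with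
  | mem s hs => obtain ⟨i, rfl⟩ := hs; exact congrFun (LinearMap.mem_ker.1 ha) i
  | zero => exact smul_zero _
  | add x y _ _ hx hy => rw [smul_add, hx, hy, add_zero]
  | smul c x _ hx => rw [smul_comm, hx, smul_zero]

/-- The products of an ideal sheaf with a module. -/
noncomputable def smulFam (J : IdealEt X) (hJ : J.IsQCoh) (M : ModEt X) (hM : BCAll M) : GenFam M where
  P W hW := J.ideal W hW • (⊤ : Submodule (Fn W) (sectModEt M W))
  map {W W'} g hW hW' s hs := by
    refine Submodule.smul_induction_on hs (fun a ha x _ => ?_) (fun x y hx hy => ?_)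
    · rw [res_smul]
      exact Submodule.smul_mem_smul (J.map_le g hW hW' (Ideal.mem_map_of_mem _ ha)) Submodule.mem_top
    · rw [map_add]; exact add_mem hx hy
  gen {W W'} g hW hW' := by
    haveI := hW
    letI := (fmap g).toAlgebra
    have key : ∀ (a : Fn W) (_ : a ∈ J.ideal W hW) (y : sectModEt M W'),
        fmap g a • y ∈ Submodule.span (Fn W')
          (res M g '' ((J.ideal W hW • ⊤ : Submodule (Fn W) (sectModEt M W)) : Set (sectModEt M W))) := by
      intro a ha y
      obtain ⟨z, rfl⟩ := (hM W hW W' g hW').2 y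
      induction z using TensorProduct.induction_on with
      | zero => simp
      | add x y hx hy => rw [map_add, smul_add]; exact add_mem hx hy
      | tmul b s =>
        rw [gam_tmul, smul_comm, ← res_smul]
        exact Submodule.smul_mem _ _ (Submodule.subset_span ⟨_, Submodule.smul_mem_smul ha Submodule.mem_top, rfl⟩)
    refine Submodule.smul_le.2 fun a ha y _ => ?_
    replace ha := hJ g hW hW' ha
    refine Submodule.span_induction (p := fun a _ => a • y ∈ Submodule.span (Fn W')
      (res M g '' ((J.ideal W hW • ⊤ : Submodule (Fn W) (sectModEt M W)) : Set (sectModEt M W))))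
      ?_ ?_ ?_ ?_ ha
    · rintro _ ⟨a, ha, rfl⟩
      exact key a ha y
    · rw [zero_smul]; exact zero_mem _
    · intro a b _ _ ha hb
      rw [add_smul]; exact add_mem ha hb
    · intro c a _ ha
      rw [smul_eq_mul, mul_smul]; exact Submodule.smul_mem _ _ ha

/-- The ideal of a closed subspace lies in the primes of its points. -/
theorem mem_prime_of_range {Z : Sp S} {i : Z ⟶ X} (hi : Representable i) (E : EtOver X)
    [IsAffine E.obj.left.left] (v : ↥E.obj.left.left) (hv : Points.ofPt E.obj.hom v ∈ Set.range (Points.map i))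
    {a : Fn E} (ha : a ∈ (idealOfRep hi).ideal E ‹_›) : a ∈ primeAtPt E.obj.left.left v := by
  obtain ⟨w, rfl⟩ := (range_bcπ hi E v).2 hv
  rw [WeakAssEtLib.primeAtPt_apply, Ideal.mem_comap, (mem_idealOfRep_iff hi E ‹_› a).1 ha]
  exact zero_mem _

variable [QuasiSeparatedSpace ↥S]

/-- A module killed by the ideal of a one point closed subspace has a descending non-zero section. -/
theorem exists_glob_ne_zero {V : EtOver X} [IsAffine V.obj.left.left] (hX : IsAlgSpace X)
    (hqs : IsQuasiSeparatedSp X) {Z : Space S} {i : Z.obj ⟶ X} (hi : RepWith @IsClosedImmersion i)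
    [Nonempty (Points Z.obj)] [Subsingleton (Points Z.obj)] {Q : ModEt X} (hQ : BCAll Q)
    (hk : ∀ (E : EtOver X) (hE : IsAffine E.obj.left.left) (s : sectModEt Q E), (idealOfRep hi.1).ideal E hE ≤ annSect s)
    {s : sectModEt Q V} (hs : s ≠ 0) : ∃ n ∈ globSub V Q, n ≠ 0 := by
  have hd : IsDecent Z.obj := AlgSpDec.isDecent_of_isQuasiSeparatedSp Z.property
    (AlgSpDec.isQuasiSeparatedSp_of_affine i
      (AlgSpLib.repWith_mono (fun _ _ e (_ : IsClosedImmersion e) => (inferInstance : IsAffineHom e)) _ hi) hqs)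
  obtain ⟨T, hT, ⟨e⟩⟩ := AlgSpDec.exists_affine_iso_of_subsingleton Z.property hd
  obtain ⟨E₀, ht, hE₀⟩ := exists_terminal e
  haveI : IsAffine E₀.obj.left.left := hE₀ ▸ hT
  obtain ⟨D⟩ := exists_desc (hi := hi) hX ⟨hi, rfl⟩ Q hk
  haveI := D.isQuasicoherent_desc hQ
  haveI := (affine_surjective_bc hi V).1
  have hbc := bcAll_of_isQuasicoherent D.desc E₀ ‹_› (EtOver.bcObj hi.1 V) (ht.from _) inferInstance
  letI := (fmap (ht.from (EtOver.bcObj hi.1 V))).toAlgebra
  by_contra hall
  push Not at hall
  have h0 : ∀ t : D.G₀.obj.obj (op E₀), rs D.G₀ (ht.from (EtOver.bcObj hi.1 V)) t = 0 := fun t => by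
    refine (D.ev V).injective ?_
    rw [map_zero]
    refine hall _ ?_
    rw [mem_globSub, ← D.ev_rs, ← D.ev_rs]
    refine congrArg _ ?_
    rw [← rs_comp, ← rs_comp]
    exact congrArg (fun k => rs D.G₀ k t) (ht.hom_ext _ _)
  obtain ⟨z, hz⟩ := hbc.2 ((D.ev V).symm s)
  refine hs ((D.ev V).symm.injective ?_)
  rw [← hz, map_zero]
  clear hz
  induction z using TensorProduct.induction_on with
  | zero => exact map_zero _
  | add x y hx hy => rw [map_add, hx, hy]; exact add_zero _
  | tmul b t =>
    rw [gam_tmul, RingHom.id_apply]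
    rw [show res D.desc (ht.from (EtOver.bcObj hi.1 V)) t = (0 : sectModEt D.desc (EtOver.bcObj hi.1 V)) from
      (D.res_desc _ t).trans (h0 t), smul_zero]

variable (hqc : IsQuasiCompactSp X) (hqs : IsQuasiSeparatedSp X) (hA : IsAlgSpace X) {V : EtOver X}
  [IsAffine V.obj.left.left] (hV : RepWith @Surjective V.obj.hom)
  (hH : ∀ K : ModEt X, BCAll K → Subsingleton (HModEt X K 1))

include hqc hqs hA hV hH in
/-- A coherent module without descending sections vanishes on the atlas. -/
theorem eq_zero_of_finite {M : ModEt X} (hM : BCAll M)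
    (hfin : ∀ E : EtOver X, IsAffine E.obj.left.left → Module.Finite (Fn E) (sectModEt M E))
    (hglob : ∀ m ∈ globSub V M, m = 0) (s : sectModEt M V) : s = 0 := by
  by_contra hs
  let I := annIdeal M hM
  have hI : I.IsQCoh := isQCoh_annIdeal M hM hfin
  obtain ⟨Z, i, hi, hiI⟩ := AlgSpDec.exists_isCutOutBy hI hA
  have hne : (Set.range (Points.map i)).Nonempty := by
    by_contra h
    have hemp : IsEmpty ↥(hi.1.pullback V.obj.hom).left := ⟨fun v =>
      h ⟨_, (range_bcπ hi.1 V _).1 ⟨v, rfl⟩⟩⟩
    have h1 : (1 : Fn V) ∈ (idealOfRep hi.1).ideal V ‹_› :=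
      Subsingleton.elim (α := Γ((hi.1.pullback V.obj.hom).left, ⊤)) _ _
    rw [hiI] at h1
    exact hs ((one_smul (Fn V) s).symm.trans (Module.mem_annihilator.1 h1 s))
  haveI := AlgSpLib.compactSpace_points hqc
  haveI := AlgSpDec.t0Space_points hA (AlgSpDec.isDecent_of_isQuasiSeparatedSp hA hqs)
  have hcl : IsClosed (Set.range (Points.map i)) := (AlgSpPts.isClosedMap_map (AlgSpLib.repWith_mono
    (fun _ _ e (_ : IsClosedImmersion e) => inferInstanceAs (UniversallyClosed e)) _ hi)).isClosed_range
  obtain ⟨x, hx, hxc⟩ := hcl.exists_closed_singleton hne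
  obtain ⟨Z', j, hj, hr, -⟩ := AlgSpDec.exists_reduced_induced hA hxc
  obtain ⟨z₀, hz₀⟩ : x ∈ Set.range (Points.map j) := hr.symm.subset rfl
  haveI : Nonempty (Points Z'.obj) := ⟨z₀⟩
  haveI : Subsingleton (Points Z'.obj) := ⟨fun a b => (haveI := AlgSpDec.mono_of_closedImmersion hj; AlgSpDec.injective_map_of_mono)
    ((hr.subset ⟨a, rfl⟩ : _ = x).trans (hr.subset ⟨b, rfl⟩ : _ = x).symm)⟩
  have hjq : (idealOfRep hj.1).IsQCoh := AlgSpDec.isQCoh_idealOfRep hj.1 (AlgSpPts.isQuasiCompactMor_of_repWith
    (AlgSpLib.repWith_mono (fun _ _ e (_ : IsClosedImmersion e) => inferInstanceAs (QuasiCompact e)) _ hj))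
  let F := smulFam (idealOfRep hj.1) hjq M hM
  let G := F.toAffSub hM
  have hG : BCAll G.mod := G.bcAll hM fun g hW hW' y hy => F.gen g hW hW' hy
  let T := ShortComplex.mk G.ι (cokernel.π G.ι) (cokernel.condition G.ι)
  have hT : T.ShortExact := { exact := ShortComplex.exact_of_g_is_cokernel _ (cokernelIsCokernel _) }
  have hQ : BCAll T.X₃ := bcAll_right hT hG hM
  have hk : ∀ (E : EtOver X) (hE : IsAffine E.obj.left.left) (t : sectModEt T.X₃ E),
      (idealOfRep hj.1).ideal E hE ≤ annSect t := fun E hE t a ha => by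
    haveI := hE
    obtain ⟨m, rfl⟩ := app_surjective hT.exact hG t
    rw [mem_annSect_iff]
    show a • app T.g E m = 0
    rw [← map_smul]
    obtain ⟨u, hu⟩ := (Set.ext_iff.1 (G.range_ι E hE) (a • m)).2 (Submodule.smul_mem_smul ha Submodule.mem_top)
    rw [← hu]
    exact (app_exact hT.exact E).apply_apply_eq_zero u
  obtain ⟨t, ht⟩ : ∃ t : sectModEt T.X₃ V, t ≠ 0 := by
    by_contra! h
    haveI := hfin V ‹_›
    have htop : (⊤ : Submodule (Fn V) (sectModEt M V)) ≤
        (idealOfRep hj.1).ideal V ‹_› • (⊤ : Submodule (Fn V) (sectModEt M V)) := fun m _ => by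
      obtain ⟨u, hu⟩ := (app_exact hT.exact V m).1 (h _)
      exact (Set.ext_iff.1 (G.range_ι V ‹_›) m).1 ⟨u, hu⟩
    obtain ⟨r, hr1, hr0⟩ := Submodule.exists_sub_one_mem_and_smul_eq_zero_of_fg_of_le_smul _ _
      Module.Finite.fg_top htop
    have hrI : r ∈ (idealOfRep hi.1).ideal V ‹_› := by
      rw [hiI]
      exact Module.mem_annihilator.2 fun m => hr0 m trivial
    obtain ⟨v, hv⟩ := AlgSpLib.surjective_ofPt hV x
    have h1 := mem_prime_of_range hi.1 V v (hv ▸ hx) hrI
    have h2 := mem_prime_of_range hj.1 V v (hv ▸ ⟨z₀, hz₀⟩) hr1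
    exact (isPrime_primeAtPt V.obj.left.left v).ne_top
      ((Ideal.eq_top_iff_one _).2 (by simpa using sub_mem h1 h2))
  obtain ⟨n, hn, hn0⟩ := exists_glob_ne_zero hA hqs hj hQ hk ht
  obtain ⟨m, hm, hmn⟩ := exists_lift_glob hV hT (hH _ hG) hn
  exact hn0 (by rw [← hmn, hglob m hm, map_zero])

end Groth.Agent.EtQC.Serre
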