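import Groth.Agent.EtQC.Serre.Ring
import Groth.Agent.AlgSpDec.AffineClassQuot
import Groth.Agent.AlgSpDec.DecentDense
import Groth.Agent.AlgSpLib.Sheaf
import Groth.Agent.IsoNatLib.Bald
import Mathlib.RingTheory.Etale.Descent
import Mathlib.AlgebraicGeometry.ZariskisMainTheorem
import Mathlib.AlgebraicGeometry.QuasiAffine
import Mathlib.AlgebraicGeometry.Sites.Fpqc

/-!
# Serre's criterion of affineness for algebraic spaces
-/

set_option autoImplicit false
set_option backward.isDefEq.respectTransparency false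
set_option backward.isDefEq.respectTransparency.types false

universe u

set_option maxHeartbeats 800000

open CategoryTheory CategoryTheory.Limits AlgebraicGeometry Opposite AlgSp
open scoped TensorProduct
open Groth.Agent.EtQC.Glob

namespace Groth.Agent.EtQC.Serre

theorem exists_appTop_eq {W Y : Scheme.{u}} [IsAffine Y] (φ : Γ(Y, ⊤) ⟶ Γ(W, ⊤)) :
    ∃ g : W ⟶ Y, g.appTop = φ := by
  refine ⟨W.toSpecΓ ≫ Spec.map φ ≫ Y.isoSpec.inv, ?_⟩
  have h := Scheme.toSpecΓ_naturality (W.toSpecΓ ≫ Spec.map φ ≫ Y.isoSpec.inv)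
  rw [Category.assoc, Category.assoc, Scheme.isoSpec_inv_toSpecΓ, Category.comp_id] at h
  have h2 := congrArg Scheme.Hom.appTop h
  rw [Scheme.Hom.comp_appTop, Scheme.Hom.comp_appTop, Scheme.toSpecΓ_appTop] at h2
  have h3 := congrArg (fun t => (Scheme.ΓSpecIso Γ(Y, ⊤)).inv ≫ t) h2
  simpa [Scheme.ΓSpecIso_inv_naturality_assoc, ← Scheme.ΓSpecIso_inv_naturality] using h3.symm

/-- The inclusion of a subring as a morphism of affine schemes. -/
noncomputable def specSub {Y : Scheme.{u}} (A : Subring Γ(Y, ⊤)) : Y ⟶ Spec (CommRingCat.of A) :=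
  Y.toSpecΓ ≫ Spec.map (CommRingCat.ofHom A.subtype)

variable {S : Scheme.{u}} [QuasiSeparatedSpace ↥S] {X : Sp S} (hA : IsAlgSpace X)
  (hqs : IsQuasiSeparatedSp X) {V : EtOver X} [IsAffine V.obj.left.left]
  (hV : RepWith @Surjective V.obj.hom)
  (hH : ∀ K : ModEt X, BCAll K → Subsingleton (HModEt X K 1))
  (hne : ∀ M : ModEt X, BCAll M → (∀ m ∈ globSub V M, m = 0) → ∀ s : sectModEt M V, s = 0)

include hA hqs hV hH hne in
/-- The functions on the relation are the tensor square. -/
theorem isPushout_rel : IsPushout (CommRingCat.ofHom (glRing V).subtype) (CommRingCat.ofHom (glRing V).subtype)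
    (EtOver.prodFst V V).hom.left.left.appTop (EtOver.prodSnd V V).hom.left.left.appTop := by
  let hf : Representable V.obj.hom := V.property.1
  have hz : (yon S).map (𝟙 V.obj.left) ≫ V.obj.hom = V.obj.hom := by simp
  letI : Algebra (glRing V) (Fn (EtOver.bcObj hf V)) := ((bcFun hf V).comp (glRing V).subtype).toAlgebra
  haveI : IsAffine ((𝟭 (Over S)).obj V.obj.left).left := ‹IsAffine V.obj.left.left›
  have hp : ∀ a : glRing V, algebraMap (glRing V) Γ(V.obj.left.left, ⊤) a =
      (𝟙 V.obj.left : V.obj.left ⟶ V.obj.left).left.appTop.hom (a : Fn V) := fun a => by simp; rfl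
  let e := AlgEquiv.ofBijective (zmul hf V (𝟙 _) hz hp (fun _ => rfl))
    (zmul_bijective hf V (𝟙 _) hz hp hA hqs (fun _ => rfl) hV hH hne)
  refine (CommRingCat.isPushout_tensorProduct (glRing V) (Fn V) (Fn V)).of_iso (Iso.refl _) (Iso.refl _)
    (Iso.refl _) e.toRingEquiv.toCommRingCatIso ?_ ?_ ?_ ?_
  · rfl
  · rfl
  · ext b
    show zmul hf V (𝟙 _) hz hp (fun _ => rfl) (b ⊗ₜ 1) = fmap (EtOver.prodFst V V) b
    rw [zmul_tmul, map_one, mul_one]
    rfl
  · ext b
    show zmul hf V (𝟙 _) hz hp (fun _ => rfl) (1 ⊗ₜ b) = fmap (EtOver.prodSnd V V) b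
    rw [zmul_tmul, map_one, one_mul]
    rfl

include hqs in
theorem isQuasiAffine_rel : (EtOver.prodObj V V).obj.left.left.IsQuasiAffine := by
  let f : (EtOver.prodObj V V).obj.left.left ⟶ V.obj.left.left := (EtOver.prodFst V V).hom.left.left
  haveI : CompactSpace ↥(EtOver.prodObj V V).obj.left.left :=
    (Glob.qcqs_prodObj hqs V V (Glob.qcqs_of_isAffine V) (Glob.qcqs_of_isAffine V)).1
  haveI : Etale f := EtOver.etale_left _
  haveI : IsSeparated f := AlgSpDec.isSeparated_snd_of_isAffine V.property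
  haveI : QuasiCompact f := quasiCompact_of_compactSpace f
  haveI : IsAffine f.normalization := isAffine_of_isAffineHom f.fromNormalization
  exact Scheme.IsQuasiAffine.of_isImmersion f.toNormalization

include hA hqs hV hH hne in
theorem isAffine_rel : IsAffine (EtOver.prodObj V V).obj.left.left := by
  haveI := isQuasiAffine_rel hqs (V := V)
  let R := (EtOver.prodObj V V).obj.left.left
  haveI : Surjective R.toSpecΓ := ⟨fun P => by
    let K := P.asIdeal.ResidueField
    let Z₀ : Scheme.{u} := Spec (CommRingCat.of K)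
    let P₀ : Γ(R, ⊤) ⟶ Γ(Z₀, ⊤) :=
      CommRingCat.ofHom (algebraMap _ K) ≫ (Scheme.ΓSpecIso (CommRingCat.of K)).inv
    obtain ⟨α, hα⟩ := exists_appTop_eq ((EtOver.prodFst V V).hom.left.left.appTop ≫ P₀)
    let Z : Over S := Over.mk (α ≫ V.obj.left.hom)
    let p : Z ⟶ V.obj.left := CategoryTheory.Over.homMk α rfl
    haveI : IsAffine Z.left := inferInstanceAs (IsAffine Z₀)
    let z := (yon S).map p ≫ V.obj.hom
    have hf : Representable z := hA.representable_from_yon z
    let W := EtOver.bcObj hf V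
    letI : Algebra (glRing V) Γ(Z.left, ⊤) := ((p.left.appTop.hom).comp (glRing V).subtype).toAlgebra
    letI : Algebra (glRing V) (Fn W) := ((bcFun hf V).comp (glRing V).subtype).toAlgebra
    let e := AlgEquiv.ofBijective (zmul hf V p rfl (fun _ => rfl) (fun _ => rfl))
      (zmul_bijective hf V p rfl (fun _ => rfl) hA hqs (fun _ => rfl) hV hH hne)
    haveI : CompactSpace ↥W.obj.left.left := (AlgSpPts.isQuasiCompactSp_yon_iff _).1
      ((AlgSpPts.isQuasiCompactMor_of_qc_qs (IsAlgSpace.yon_obj Z) hA (AlgSpLib.isQuasiCompactSp_yon Z) hqs z)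
        (IsAlgSpace.yon_obj V.obj.left) (AlgSpLib.isQuasiCompactSp_yon V.obj.left) V.obj.hom
        (hf.fst V.obj.hom) ((yon S).map (hf.snd V.obj.hom)) (hf.isPullback V.obj.hom))
    let tW : W.obj.left.left ⟶ Z₀ := (toTop W).hom.left.left
    haveI : Etale tW := EtOver.etale_left (toTop W)
    haveI : QuasiCompact tW := quasiCompact_of_compactSpace tW
    haveI : IsFinite tW := IsFinite.of_locallyQuasiFinite tW
    haveI : IsAffine W.obj.left.left := isAffine_of_isAffineHom tW
    let β : Fn V →ₐ[glRing V] Γ(Z.left, ⊤) :=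
      { ((EtOver.prodSnd V V).hom.left.left.appTop ≫ P₀).hom with
        commutes' := fun a => by
          show P₀.hom (fmap (EtOver.prodSnd V V) (a : Fn V)) = α.appTop.hom (a : Fn V)
          rw [hα]
          exact congrArg P₀.hom a.2.symm }
    let μ : Fn V ⊗[glRing V] Γ(Z.left, ⊤) →ₐ[glRing V] Γ(Z.left, ⊤) :=
      Algebra.TensorProduct.productMap β (AlgHom.id _ _)
    obtain ⟨w, hw⟩ := exists_appTop_eq (W := Z₀) (Y := W.obj.left.left)
      (CommRingCat.ofHom (μ.toRingHom.comp e.symm.toAlgHom.toRingHom))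
    have hγ : ∀ (b : Fn V) (c : Γ(Z.left, ⊤)), w.appTop.hom (bcFun hf V b * fmap (toTop W) c) = β b * c := fun b c => by
      rw [hw]
      show μ (e.symm (e (b ⊗ₜ c))) = _
      rw [AlgEquiv.symm_apply_apply]
      rfl
    have hwt : w ≫ tW = 𝟙 Z₀ := ext_of_isAffine (CommRingCat.hom_ext (RingHom.ext fun c => by
      have h := hγ 1 c
      rw [map_one, map_one, one_mul, one_mul] at h
      rw [Scheme.Hom.comp_appTop, Scheme.Hom.id_appTop]
      exact h))
    have hwπ : (w ≫ (EtOver.bcπ hf V).left).appTop = (EtOver.prodSnd V V).hom.left.left.appTop ≫ P₀ :=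
      CommRingCat.hom_ext (RingHom.ext fun b => by
        have h := hγ b 1
        rw [map_one, mul_one, mul_one] at h
        rw [Scheme.Hom.comp_appTop]
        exact h)
    let w' : Z ⟶ W.obj.left := CategoryTheory.Over.homMk w (by
      rw [← Over.w (toTop W).hom.left]
      exact (Category.assoc _ _ _).symm.trans ((congrArg (· ≫ Z.hom) hwt).trans (Category.id_comp _)))
    have hw' : w' ≫ (toTop W).hom.left = 𝟙 Z := Over.OverMorphism.ext hwt
    have hcond : (yon S).map (w' ≫ EtOver.bcπ hf V) ≫ V.obj.hom = (yon S).map p ≫ V.obj.hom := by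
      rw [Functor.map_comp, Category.assoc, ← (EtOver.isPullback_bcObj hf V).w,
        show (EtOver.bcObj hf V).obj.hom = (yon S).map (toTop W).hom.left from
          ((yon S).map_preimage _).symm, ← Functor.map_comp_assoc, hw']
      simp [z]
    let r : Z ⟶ V.property.1.pullback V.obj.hom := V.property.1.lift' (w' ≫ EtOver.bcπ hf V) p hcond
    have hr1 : r.left ≫ (EtOver.prodSnd V V).hom.left.left = w ≫ (EtOver.bcπ hf V).left :=
      congrArg (fun k : Z ⟶ V.obj.left => k.left) (Functor.relativelyRepresentable.lift'_fst _ _ _ _)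
    have hr2 : r.left ≫ (EtOver.prodFst V V).hom.left.left = α :=
      congrArg (fun k : Z ⟶ V.obj.left => k.left) (Functor.relativelyRepresentable.lift'_snd _ _ _ _)
    let r₀ : Z₀ ⟶ R := r.left
    have hr : r₀.appTop = P₀ := by
      refine (isPushout_rel hA hqs hV hH hne).hom_ext ?_ ?_
      · exact ((Scheme.Hom.comp_appTop _ _).symm.trans ((congrArg Scheme.Hom.appTop hr2).trans hα) :)
      · exact ((Scheme.Hom.comp_appTop _ _).symm.trans ((congrArg Scheme.Hom.appTop hr1).trans hwπ) :)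
    have hnat : r₀ ≫ R.toSpecΓ = Spec.map (CommRingCat.ofHom (algebraMap _ K)) := by
      rw [Scheme.toSpecΓ_naturality, hr, Spec.map_comp, toSpecΓ_SpecMap_ΓSpecIso_inv_assoc]
    refine ⟨r₀ (default : PrimeSpectrum K), ?_⟩
    refine ((Scheme.Hom.comp_apply r₀ R.toSpecΓ _).symm.trans (congrArg (fun g : Z₀ ⟶ Spec Γ(R, ⊤) => g (default : PrimeSpectrum K)) hnat)).trans ?_
    refine PrimeSpectrum.ext (Ideal.ext fun x => ?_)
    show algebraMap _ K x ∈ (default : PrimeSpectrum K).asIdeal ↔ x ∈ P.asIdeal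
    rw [show (default : PrimeSpectrum K).asIdeal = ⊥ from
      (Ideal.eq_bot_or_top _).resolve_right (default : PrimeSpectrum K).2.ne_top, Ideal.mem_bot, Ideal.algebraMap_residueField_eq_zero]⟩
  haveI : IsIso R.toSpecΓ := isIso_iff_isOpenImmersion_and_epi_base _ |>.2
    ⟨inferInstance, (TopCat.epi_iff_surjective _).2 R.toSpecΓ.surjective⟩
  exact ⟨‹IsIso R.toSpecΓ›⟩

include hA hqs hV hH hne in
theorem etale_glRing : (CommRingCat.ofHom (glRing V).subtype).hom.Etale := by
  haveI := faithfullyFlat_fn hV hH hne hqs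
  haveI := isAffine_rel hA hqs hV hH hne
  let f : (EtOver.prodObj V V).obj.left.left ⟶ V.obj.left.left := (EtOver.prodFst V V).hom.left.left
  haveI : Etale f := EtOver.etale_left _
  have hE : f.appTop.hom.Etale := (HasRingHomProperty.iff_of_isAffine (P := @Etale)).1 ‹_›
  let hf : Representable V.obj.hom := V.property.1
  have hz : (yon S).map (𝟙 V.obj.left) ≫ V.obj.hom = V.obj.hom := by simp
  letI : Algebra (glRing V) (Fn (EtOver.bcObj hf V)) := ((bcFun hf V).comp (glRing V).subtype).toAlgebra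
  haveI : IsAffine ((𝟭 (Over S)).obj V.obj.left).left := ‹IsAffine V.obj.left.left›
  have hp : ∀ a : glRing V, algebraMap (glRing V) Γ(V.obj.left.left, ⊤) a =
      (𝟙 V.obj.left : V.obj.left ⟶ V.obj.left).left.appTop.hom (a : Fn V) := fun a => by simp; rfl
  letI : Algebra (Fn V) (Fn (EtOver.bcObj hf V)) := (bcFun hf V).toAlgebra
  let e : Fn V ⊗[glRing V] Fn V ≃ₐ[Fn V] Fn (EtOver.bcObj hf V) :=
    AlgEquiv.ofRingEquiv (f := (AlgEquiv.ofBijective (zmul hf V (𝟙 _) hz hp (fun _ => rfl))
      (zmul_bijective hf V (𝟙 _) hz hp hA hqs (fun _ => rfl) hV hH hne)).toRingEquiv) fun b => by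
      show zmul hf V (𝟙 _) hz hp (fun _ => rfl) (b ⊗ₜ 1) = bcFun hf V b
      rw [zmul_tmul, map_one, mul_one]
  haveI : Algebra.Etale (Fn V) (Fn (EtOver.bcObj hf V)) := hE
  haveI : Algebra.Etale (Fn V) (Fn V ⊗[glRing V] Fn V) := Algebra.Etale.of_equiv e.symm
  haveI := Algebra.Etale.of_etale_tensorProduct_of_faithfullyFlat (R := glRing V) (S := Fn V) (Fn V)
  exact RingHom.etale_algebraMap.2 ‹_›

include hA hqs hV hH hne in
/-- A space on which quasi-coherent modules are acyclic and generated by descending sections is affine. -/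
theorem exists_iso_affine : ∃ T : Over S, IsAffine T.left ∧ Nonempty ((yon S).obj T ≅ X) := by
  haveI := faithfullyFlat_fn hV hH hne hqs
  haveI := isAffine_rel hA hqs hV hH hne
  let R := EtOver.prodObj V V
  let ι : CommRingCat.of (glRing V) ⟶ Γ(V.obj.left.left, ⊤) := CommRingCat.ofHom (glRing V).subtype
  let π₀ : V.obj.left.left ⟶ Spec (CommRingCat.of (glRing V)) := V.obj.left.left.isoSpec.hom ≫ Spec.map ι
  have hιf : ι.hom.FaithfullyFlat := RingHom.faithfullyFlat_algebraMap_iff.2 ‹_›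
  haveI : Etale (Spec.map ι) := (HasRingHomProperty.Spec_iff (P := @Etale)).2 (etale_glRing hA hqs hV hH hne)
  haveI : Surjective (Spec.map ι) :=
    ((AlgebraicGeometry.flat_and_surjective_SpecMap_iff ι).2 hιf).2
  have sq2 : IsPullback (EtOver.prodFst V V).hom.left.left (EtOver.prodSnd V V).hom.left.left π₀ π₀ := by
    refine (isPullback_SpecMap_of_isPushout _ _ _ _ (isPushout_rel hA hqs hV hH hne)).of_iso
      R.obj.left.left.isoSpec.symm V.obj.left.left.isoSpec.symm V.obj.left.left.isoSpec.symm (Iso.refl _)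
      ?_ ?_ ?_ ?_
    · simp [Scheme.isoSpec_inv_naturality, R]
    · simp [Scheme.isoSpec_inv_naturality, R]
    · simp [π₀, ι]
    · simp [π₀, ι]
  haveI : Etale π₀ := inferInstanceAs (Etale (V.obj.left.left.isoSpec.hom ≫ Spec.map ι))
  haveI : Surjective π₀ := inferInstanceAs (Surjective (V.obj.left.left.isoSpec.hom ≫ Spec.map ι))
  haveI : QuasiCompact π₀ := inferInstanceAs (QuasiCompact (V.obj.left.left.isoSpec.hom ≫ Spec.map ι))
  have hdesc : ∀ {Z : Scheme.{u}} (g₁ g₂ : Z ⟶ V.obj.left.left), g₁ ≫ π₀ = g₂ ≫ π₀ →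
      g₁ ≫ V.obj.left.hom = g₂ ≫ V.obj.left.hom := fun g₁ g₂ hg => by
    obtain ⟨l, h1, h2⟩ := sq2.exists_lift g₁ g₂ hg
    rw [← h1, ← h2, Category.assoc, Category.assoc]
    exact congrArg _ ((Over.w (EtOver.prodFst V V).hom.left).trans (Over.w (EtOver.prodSnd V V).hom.left).symm)
  let h : Spec (CommRingCat.of (glRing V)) ⟶ S := EffectiveEpi.desc π₀ V.obj.left.hom hdesc
  let T : Over S := Over.mk h
  let π : V.obj.left ⟶ T := CategoryTheory.Over.homMk π₀ (EffectiveEpi.fac π₀ V.obj.left.hom hdesc)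
  haveI : Etale π.left := ‹Etale π₀›
  haveI : Surjective π.left := ‹Surjective π₀›
  haveI := IsoNatLib.epi_yon_map π
  haveI : Epi V.obj.hom := AlgSpLib.epi_of_etale_surjective V.property hV
  have sqT : IsPullback (EtOver.prodFst V V).hom.left (EtOver.prodSnd V V).hom.left π π :=
    IsPullback.of_map (Over.forget S) (Over.OverMorphism.ext sq2.w) sq2
  have sqX : IsPullback ((yon S).map (EtOver.prodFst V V).hom.left) ((yon S).map (EtOver.prodSnd V V).hom.left)
      V.obj.hom V.obj.hom := (V.property.1.isPullback' V.obj.hom).flip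
  exact ⟨T, inferInstanceAs (IsAffine (Spec _)),
    AlgSpDec.nonempty_iso_of_same_kernelPair _ _ ((yon S).map π) V.obj.hom (sqT.map (yon S)) sqX⟩

end Groth.Agent.EtQC.Serre
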