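import Groth.Agent.EtQC.Serre.Closed
import Groth.Agent.EtQC.Glob.Colim
import Mathlib.Algebra.Category.ModuleCat.Presheaf.Colimits

/-!
# On a Noetherian space vanishing for coherent modules suffices
-/

set_option autoImplicit false
set_option backward.isDefEq.respectTransparency false
set_option backward.isDefEq.respectTransparency.types false

universe u

set_option maxHeartbeats 800000

open CategoryTheory CategoryTheory.Limits AlgebraicGeometry Opposite AlgSp
open scoped TensorProduct

namespace Groth.Agent.EtQC.Serre

variable {S : Scheme.{u}} [QuasiSeparatedSpace ↥S] {X : Sp S} (hqc : IsQuasiCompactSp X)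
  (hqs : IsQuasiSeparatedSp X) (hN : IsLocNoethSp X)

section Sys

variable {V : EtOver X} [IsAffine V.obj.left.left] {M : ModEt X} (hM : BCAll M)

omit [QuasiSeparatedSpace ↥S] in
theorem exists_hullMap {T T' : Finset (sectModEt M V)} (h : T ⊆ T') :
    ∃ f : (hull hM (Submodule.span (Fn V) (T : Set (sectModEt M V)))).mod ⟶
        (hull hM (Submodule.span (Fn V) (T' : Set (sectModEt M V)))).mod,
      f ≫ (hull hM (Submodule.span (Fn V) (T' : Set (sectModEt M V)))).ι =
        (hull hM (Submodule.span (Fn V) (T : Set (sectModEt M V)))).ι :=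
  exists_factor (hull hM (Submodule.span (Fn V) (T' : Set (sectModEt M V)))).ι
    (hull hM (Submodule.span (Fn V) (T : Set (sectModEt M V)))).ι fun W hW t => by
      refine (Set.ext_iff.1 ((hull hM _).range_ι W hW) _).2 fun U hU a b => ?_
      exact Submodule.span_mono (Set.image_mono (Submodule.span_mono (Finset.coe_subset.2 h)))
        ((Set.ext_iff.1 ((hull hM (Submodule.span (Fn V) (T : Set (sectModEt M V)))).range_ι W hW) _).1 ⟨t, rfl⟩
          U hU a b)

/-- The comparison of two hulls. -/
noncomputable def hullMap {T T' : Finset (sectModEt M V)} (h : T ⊆ T') :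
    (hull hM (Submodule.span (Fn V) (T : Set (sectModEt M V)))).mod ⟶
      (hull hM (Submodule.span (Fn V) (T' : Set (sectModEt M V)))).mod :=
  (exists_hullMap hM h).choose

omit [QuasiSeparatedSpace ↥S] in
theorem hullMap_ι {T T' : Finset (sectModEt M V)} (h : T ⊆ T') :
    hullMap hM h ≫ (hull hM (Submodule.span (Fn V) (T' : Set (sectModEt M V)))).ι =
      (hull hM (Submodule.span (Fn V) (T : Set (sectModEt M V)))).ι :=
  (exists_hullMap hM h).choose_spec

/-- The submodules hulling finite sets of sections. -/
noncomputable def hullSys : Finset (sectModEt M V) ⥤ ModEt X where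
  obj T := (hull hM (Submodule.span (Fn V) (T : Set (sectModEt M V)))).mod
  map h := hullMap hM (leOfHom h)
  map_id T := by
    rw [← cancel_mono (hull hM (Submodule.span (Fn V) (T : Set (sectModEt M V)))).ι, hullMap_ι, Category.id_comp]
  map_comp {T T' T''} h h' := by
    rw [← cancel_mono (hull hM (Submodule.span (Fn V) (T'' : Set (sectModEt M V)))).ι, Category.assoc, hullMap_ι,
      hullMap_ι, hullMap_ι]

/-- Their inclusions. -/
noncomputable def hullIncl : hullSys (V := V) hM ⟶ (Functor.const (Finset (sectModEt M V))).obj M where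
  app T := (hull hM (Submodule.span (Fn V) (T : Set (sectModEt M V)))).ι
  naturality {T T'} h := (hullMap_ι hM (leOfHom h)).trans (Category.comp_id _).symm

end Sys

omit [QuasiSeparatedSpace ↥S] in
/-- Underlying abelian sheaves commute with colimits. -/
theorem preservesColimitsOfShape_toAbEt (I : Type (u + 1)) [SmallCategory I] :
    PreservesColimitsOfShape I (toAbEt X) where
  preservesColimit {K} := by
    let adj := PresheafOfModules.sheafificationAdjunction.{u + 1} (𝟙 (OEtRing X).obj)
    let G := SheafOfModules.forget (OEtRing X) ⋙ PresheafOfModules.restrictScalars (𝟙 (OEtRing X).obj)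
    let sh := PresheafOfModules.sheafification.{u + 1} (𝟙 (OEtRing X).obj)
    have : PreservesColimitsOfShape I sh := adj.leftAdjoint_preservesColimits.1
    have : PreservesColimitsOfShape I (presheafToSheaf (etTop X) AddCommGrpCat.{u + 1}) :=
      (CategoryTheory.sheafificationAdjunction (etTop X) AddCommGrpCat.{u + 1}).leftAdjoint_preservesColimits.1
    have : PreservesColimitsOfShape I (PresheafOfModules.toPresheaf.{u + 1} (OEtRing X).obj) :=
      PresheafOfModules.toPresheaf_preservesColimitsOfShape _ _
    have : PreservesColimitsOfShape I (PresheafOfModules.toPresheaf.{u + 1} (OEtRing X).obj ⋙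
        presheafToSheaf (etTop X) AddCommGrpCat.{u + 1}) := comp_preservesColimitsOfShape _ _
    have : PreservesColimitsOfShape I (sh ⋙ SheafOfModules.toSheaf (OEtRing X)) :=
      @preservesColimitsOfShape_of_natIso _ _ _ _ _ _ _ _
        (PresheafOfModules.sheafificationCompToSheaf (𝟙 (OEtRing X).obj)).symm (by assumption)
    let L := K ⋙ G
    have : PreservesColimit (L ⋙ sh) (SheafOfModules.toSheaf (OEtRing X)) :=
      preservesColimit_of_preserves_colimit_cocone (isColimitOfPreserves sh (colimit.isColimit L))
        (isColimitOfPreserves (sh ⋙ SheafOfModules.toSheaf (OEtRing X)) (colimit.isColimit L))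
    have : IsIso adj.counit := inferInstance
    exact preservesColimit_of_iso_diagram (SheafOfModules.toSheaf (OEtRing X))
      (K₁ := L ⋙ sh) (Functor.associator K G sh ≪≫
        Functor.isoWhiskerLeft K (asIso adj.counit) ≪≫ Functor.rightUnitor K)

include hqc hqs hN in
/-- Vanishing for coherent modules gives vanishing for all quasi-coherent modules. -/
theorem subsingleton_of_fp {V : EtOver X} [IsAffine V.obj.left.left] (hV : RepWith @Surjective V.obj.hom)
    (h1 : ∀ M : ModEt X, M.IsFinitePresentation → Subsingleton (HModEt X M 1)) {M : ModEt X} (hM : BCAll M) :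
    Subsingleton (HModEt X M 1) := by
  classical
  haveI : ∀ T, Mono ((hullIncl (V := V) hM).app T) := fun T =>
    inferInstanceAs (Mono (hull hM (Submodule.span (Fn V) (T : Set (sectModEt M V)))).ι)
  obtain ⟨hc⟩ := isColimit_of_union (hullSys (V := V) hM) (hullIncl hM) fun W hW s => by
    haveI := hW
    obtain ⟨T, hT⟩ := exists_hull_mem hqs hM (V := V) W s
    exact ⟨T, (Set.ext_iff.1 ((hull hM _).range_ι W hW) s).2 (hT _ Submodule.subset_span)⟩
  haveI := preservesColimitsOfShape_toAbEt (X := X) (Finset (sectModEt M V))
  have hc' := isColimitOfPreserves (toAbEt X) hc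
  haveI := Glob.preservesColimitsOfShape_HEtF (X := X) hqc hqs (I := Finset (sectModEt M V)) 1
  have hc'' := isColimitOfPreserves (HEtF X 1) hc'
  refine subsingleton_of_forall_eq 0 fun x => ?_
  obtain ⟨T, y, hy⟩ := Concrete.isColimit_exists_rep _ hc'' x
  have h := h1 _ (hull_fp hqs hN hM hV (Submodule.span (Fn V) (T : Set (sectModEt M V))) ⟨T, rfl⟩)
  exact hy.symm.trans ((congrArg _ (@Subsingleton.elim _ h y 0)).trans (map_zero _))

include hqc hqs hN in
/-- A quasi-coherent module without descending sections vanishes on the atlas. -/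
theorem eq_zero_of_glob (hA : IsAlgSpace X) {V : EtOver X} [IsAffine V.obj.left.left]
    (hV : RepWith @Surjective V.obj.hom) (hH : ∀ K : ModEt X, BCAll K → Subsingleton (HModEt X K 1))
    (M : ModEt X) (hM : BCAll M) (hglob : ∀ m ∈ globSub V M, m = 0) (s : sectModEt M V) : s = 0 := by
  obtain ⟨T, hT⟩ := exists_hull_mem hqs hM (V := V) V s
  let N₀ : Submodule (Fn V) (sectModEt M V) := Submodule.span (Fn V) (T : Set (sectModEt M V))
  let G := hull hM N₀
  have hG : BCAll G.mod := hull_bcAll hM _ hqs
  haveI := hull_fp hqs hN hM hV N₀ ⟨T, rfl⟩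
  haveI := hG.isQuasicoherent
  have hfin : ∀ E : EtOver X, IsAffine E.obj.left.left → Module.Finite (Fn E) (sectModEt G.mod E) := fun E hE =>
    haveI := hE
    (ft_of_isFiniteType G.mod).finite hG E
  have hs : s ∈ G.P V ‹_› := hT _ Submodule.subset_span
  obtain ⟨t, ht⟩ := (Set.ext_iff.1 (G.range_ι V ‹_›) s).2 hs
  rw [← ht, eq_zero_of_finite hqc hqs hA hV hH hG hfin (fun m hm => app_injective G.ι V
    ((hglob _ (app_mem_globSub V G.ι hm)).trans (map_zero _).symm)) t, map_zero]

end Groth.Agent.EtQC.Serre
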