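import Groth.Agent.EtQC.Serre.Glob

/-!
# Quasi-coherent modules are extended from their global sections when these are exact and faithful
-/

set_option autoImplicit false
set_option backward.isDefEq.respectTransparency false
set_option backward.isDefEq.respectTransparency.types false

universe u

set_option maxHeartbeats 800000

open CategoryTheory CategoryTheory.Limits AlgebraicGeometry Opposite AlgSp
open scoped TensorProduct
open Groth.Agent.EtQC.Glob

namespace Groth.Agent.EtQC.Serre

variable {S : Scheme.{u}} {X : Sp S}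

section Alg

variable {R : Type*} [CommSemiring R] {Q A B P M : Type*} [AddCommMonoid Q] [Module R Q] [AddCommMonoid A] [Module R A]
  [AddCommMonoid B] [Module R B] [AddCommMonoid P] [Module R P] [AddCommMonoid M] [Module R M]

theorem lTensor_split (i : A →ₗ[R] P) (j : B →ₗ[R] P) (p : P →ₗ[R] A) (q : P →ₗ[R] B)
    (e : i.comp p + j.comp q = LinearMap.id) (c : Q ⊗[R] P) :
    i.lTensor Q (p.lTensor Q c) + j.lTensor Q (q.lTensor Q c) = c := by
  rw [← LinearMap.lTensor_comp_apply, ← LinearMap.lTensor_comp_apply, ← LinearMap.add_apply,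
    ← LinearMap.lTensor_add, e, LinearMap.lTensor_id_apply]

theorem lTensor_sum (i : A →ₗ[R] P) (j : B →ₗ[R] P) (θ : P →ₗ[R] M) (φ : A →ₗ[R] M) (φ' : B →ₗ[R] M)
    (h1 : θ.comp i = φ) (h2 : θ.comp j = φ') (w : Q ⊗[R] A) (w' : Q ⊗[R] B) :
    θ.lTensor Q (i.lTensor Q w + j.lTensor Q w') = φ.lTensor Q w + φ'.lTensor Q w' := by
  rw [map_add, ← LinearMap.lTensor_comp_apply, ← LinearMap.lTensor_comp_apply, h1, h2]

theorem lTensor_zero_of_comp (κ : A →ₗ[R] P) (φ : P →ₗ[R] M) (h : φ.comp κ = 0) (w : Q ⊗[R] P) (w' : Q ⊗[R] A)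
    (e : κ.lTensor Q w' = w) : φ.lTensor Q w = 0 := by
  rw [← e, ← LinearMap.lTensor_comp_apply, h, LinearMap.lTensor_zero, LinearMap.zero_apply]

end Alg

/-- The unit module. -/
noncomputable abbrev oX (X : Sp S) : ModEt X := unitModEt X

/-- A function as a section of the unit module. -/
noncomputable def osec (E : EtOver X) (a : Fn E) : sectModEt (oX X) E := upΓ E a

theorem osec_surjective (E : EtOver X) : Function.Surjective (osec E) := fun s => ⟨s.down, rfl⟩

theorem osec_injective (E : EtOver X) : Function.Injective (osec E) := fun _ _ h => congrArg ULift.down h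

theorem osec_smul (E : EtOver X) (a b : Fn E) : a • osec E b = osec E (a * b) := rfl

theorem res_osec {E E' : EtOver X} (g : E' ⟶ E) (a : Fn E) : res (oX X) g (osec E a) = osec E' (fmap g a) := rfl

theorem osec_add (E : EtOver X) (a b : Fn E) : osec E (a + b) = osec E a + osec E b := rfl

theorem bcAll_unit : BCAll (oX X) := by
  intro W hW W' g hW'
  haveI := hW
  letI := (fmap g).toAlgebra
  have key : ∀ z : Fn W' ⊗[Fn W] sectModEt (oX X) W, ∃ b : Fn W', z = b ⊗ₜ osec W 1 := fun z => by
    induction z using TensorProduct.induction_on with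
    | zero => exact ⟨0, (TensorProduct.zero_tmul _ _).symm⟩
    | add x y hx hy =>
      obtain ⟨b, rfl⟩ := hx
      obtain ⟨c, rfl⟩ := hy
      exact ⟨b + c, (TensorProduct.add_tmul _ _ _).symm⟩
    | tmul b s =>
      obtain ⟨a, rfl⟩ := osec_surjective W s
      refine ⟨a • b, ?_⟩
      rw [TensorProduct.smul_tmul, osec_smul, mul_one]
  have hval : ∀ b : Fn W', gam (RingHom.id (Fn W')) (res (oX X) g) (res_smul' (oX X) g) (b ⊗ₜ osec W 1) = osec W' b :=
    fun b => by rw [gam_tmul, RingHom.id_apply, res_osec, map_one, osec_smul, mul_one]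
  refine ⟨fun x y h => ?_, fun y => ?_⟩
  · obtain ⟨b, rfl⟩ := key x
    obtain ⟨c, rfl⟩ := key y
    rw [hval, hval] at h
    rw [osec_injective W' h]
  · obtain ⟨b, rfl⟩ := osec_surjective W' y
    exact ⟨_, hval b⟩

theorem bcAll_biprod {A B : ModEt X} (hA : BCAll A) (hB : BCAll B) : BCAll (A ⊞ B) :=
  bcAll_middle (T := ShortComplex.mk (biprod.inl : A ⟶ A ⊞ B) (biprod.snd : A ⊞ B ⟶ B) biprod.inl_snd)
    (ShortComplex.Splitting.ofHasBinaryBiproduct A B).shortExact hA hB

/-- Scalar multiplication by a section of the unit module. -/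
noncomputable def usm {M : ModEt X} (E : EtOver X) (r : sectModEt (oX X) E) (s : sectModEt M E) : sectModEt M E :=
  (show Fn E from r.down) • s

/-- The morphism from the unit module given by a natural family of sections. -/
noncomputable def unitHom {M : ModEt X} (σ : ∀ E : EtOver X, sectModEt M E)
    (hσ : ∀ (E E' : EtOver X) (a : E' ⟶ E), σ E' = res M a (σ E)) : oX X ⟶ M :=
  ⟨PresheafOfModules.homMk
    { app := fun E => AddCommGrpCat.ofHom
        (AddMonoidHom.mk' (fun (r : sectModEt (oX X) E.unop) => usm E.unop r (σ E.unop))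
          fun r r' => (add_smul (show Fn E.unop from r.down) (show Fn E.unop from r'.down) (σ E.unop : sectModEt M E.unop) :))
      naturality := fun E E' l => AddCommGrpCat.hom_ext (AddMonoidHom.ext fun r => by
        show fmap l.unop (show Fn E.unop from r.down) • (σ E'.unop : sectModEt M E'.unop) =
          res M l.unop (usm E.unop r (σ E.unop))
        rw [usm, res_smul, ← hσ]) }
    fun E d s => mul_smul (show Fn E.unop from d.down) (show Fn E.unop from s.down) (σ E.unop)⟩

theorem app_unitHom {M : ModEt X} (σ : ∀ E : EtOver X, sectModEt M E)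
    (hσ : ∀ (E E' : EtOver X) (a : E' ⟶ E), σ E' = res M a (σ E)) (E : EtOver X) (a : Fn E) :
    app (unitHom σ hσ) E (osec E a) = a • σ E := rfl

/-- The family of submodules generated by the global sections. -/
noncomputable def genFam (M : ModEt X) : GenFam M where
  P W _ := Submodule.span (Fn W)
    {s | ∃ σ : ∀ E : EtOver X, sectModEt M E, (∀ (E E' : EtOver X) (a : E' ⟶ E), σ E' = res M a (σ E)) ∧ σ W = s}
  map {W W'} g _ _ s hs := by
    induction hs using Submodule.span_induction with
    | mem s hs =>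
      obtain ⟨σ, hσ, rfl⟩ := hs
      exact Submodule.subset_span ⟨σ, hσ, hσ W W' g⟩
    | zero => rw [map_zero]; exact zero_mem _
    | add a b _ _ ha hb => rw [map_add]; exact add_mem ha hb
    | smul c a _ ha => rw [res_smul]; exact Submodule.smul_mem _ _ ha
  gen {W W'} g hW hW' := Submodule.span_le.2 fun s hs => by
    obtain ⟨σ, hσ, rfl⟩ := hs
    exact Submodule.subset_span ⟨σ W, Submodule.subset_span ⟨σ, hσ, rfl⟩, (hσ W W' g).symm⟩

variable {V : EtOver X} [IsAffine V.obj.left.left] (hV : RepWith @Surjective V.obj.hom)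
  (hH : ∀ K : ModEt X, BCAll K → Subsingleton (HModEt X K 1))
  (hne : ∀ M : ModEt X, BCAll M → (∀ m ∈ globSub V M, m = 0) → ∀ s : sectModEt M V, s = 0)

omit [IsAffine V.obj.left.left] in
theorem gev_smul {M : ModEt X} (c : Fn V) (x : Fn V ⊗[glRing V] globSub V M) :
    gev V M (c • x) = c • gev V M x := by
  induction x using TensorProduct.induction_on with
  | zero => simp
  | add x y hx hy => simp only [smul_add, map_add, hx, hy]
  | tmul b m => rw [TensorProduct.smul_tmul', gev_tmul, gev_tmul]; exact mul_smul c b _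

include hV hH hne in
theorem gev_surjective {M : ModEt X} (hM : BCAll M) : Function.Surjective (gev V M) := by
  let G := (genFam M).toAffSub hM
  have hG : BCAll G.mod := G.bcAll hM fun g hW hW' y hy => (genFam M).gen g hW hW' hy
  let T := ShortComplex.mk G.ι (cokernel.π G.ι) (cokernel.condition G.ι)
  have hT : T.ShortExact :=
    { exact := ShortComplex.exact_of_g_is_cokernel _ (cokernelIsCokernel _) }
  have hQ : BCAll T.X₃ := bcAll_right hT hG hM
  intro s
  have hzero : app T.g V s = 0 := hne T.X₃ hQ (fun n hn => by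
    obtain ⟨m, hm, rfl⟩ := exists_lift_glob hV hT (hH _ hG) hn
    obtain ⟨σ, hσ, hσV⟩ := exists_extend hV hm
    obtain ⟨t, ht⟩ := (Set.ext_iff.1 (G.range_ι V ‹_›) m).2 (Submodule.subset_span ⟨σ, hσ, hσV⟩)
    rw [← ht]
    exact (app_exact hT.exact V).apply_apply_eq_zero t) _
  obtain ⟨t, ht⟩ := (app_exact hT.exact V s).1 hzero
  have hs : s ∈ (genFam M).P V ‹_› := (Set.ext_iff.1 (G.range_ι V ‹_›) s).1 ⟨t, ht⟩
  clear ht hzero
  induction hs using Submodule.span_induction with
  | mem s hs =>
    obtain ⟨σ, hσ, rfl⟩ := hs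
    exact ⟨1 ⊗ₜ ⟨σ V, (hσ _ _ _).symm.trans (hσ _ _ _)⟩, by rw [gev_tmul, one_smul]⟩
  | zero => exact ⟨0, map_zero _⟩
  | add a b _ _ ha hb =>
    obtain ⟨x, rfl⟩ := ha
    obtain ⟨y, rfl⟩ := hb
    exact ⟨x + y, map_add _ _ _⟩
  | smul c a _ ha =>
    obtain ⟨x, rfl⟩ := ha
    exact ⟨c • x, gev_smul c x⟩

omit [IsAffine V.obj.left.left] in
theorem gev_unit_injective : Function.Injective (gev V (oX X)) := by
  let e : globSub V (oX X) := ⟨osec V 1, by rw [mem_globSub, res_osec, res_osec, map_one, map_one]⟩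
  have key : ∀ z : Fn V ⊗[glRing V] globSub V (oX X), ∃ b : Fn V, z = b ⊗ₜ e := fun z => by
    induction z using TensorProduct.induction_on with
    | zero => exact ⟨0, (TensorProduct.zero_tmul _ _).symm⟩
    | add x y hx hy =>
      obtain ⟨b, rfl⟩ := hx
      obtain ⟨c, rfl⟩ := hy
      exact ⟨b + c, (TensorProduct.add_tmul _ _ _).symm⟩
    | tmul b s =>
      obtain ⟨s, hs⟩ := s
      obtain ⟨a, rfl⟩ := osec_surjective V s
      rw [mem_globSub, res_osec, res_osec] at hs
      refine ⟨(⟨a, osec_injective _ hs⟩ : glRing V) • b, ?_⟩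
      rw [TensorProduct.smul_tmul]
      exact congrArg (b ⊗ₜ[glRing V] ·) (Subtype.ext (by
        show osec V a = a • osec V 1
        rw [osec_smul, mul_one]))
  intro x y h
  obtain ⟨b, rfl⟩ := key x
  obtain ⟨c, rfl⟩ := key y
  rw [gev_tmul, gev_tmul] at h
  change b • osec V 1 = c • osec V 1 at h
  rw [osec_smul, osec_smul, mul_one, mul_one] at h
  rw [osec_injective V h]

omit [IsAffine V.obj.left.left] in
theorem globMap_comp {A B C : ModEt X} (f : A ⟶ B) (g : B ⟶ C) :
    globMap V (f ≫ g) = (globMap V g).comp (globMap V f) :=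
  LinearMap.ext fun _ => Subtype.ext rfl

omit [IsAffine V.obj.left.left] in
theorem globMap_id (A : ModEt X) : globMap V (𝟙 A) = LinearMap.id := LinearMap.ext fun _ => Subtype.ext rfl

omit [IsAffine V.obj.left.left] in
theorem globMap_add {A B : ModEt X} (f g : A ⟶ B) : globMap V (f + g) = globMap V f + globMap V g :=
  LinearMap.ext fun _ => Subtype.ext rfl

omit [IsAffine V.obj.left.left] in
theorem globMap_zero (A B : ModEt X) : globMap V (0 : A ⟶ B) = 0 := LinearMap.ext fun _ => Subtype.ext rfl

omit [IsAffine V.obj.left.left] in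
theorem globMap_unitHom {M : ModEt X} (σ : ∀ E : EtOver X, sectModEt M E)
    (hσ : ∀ (E E' : EtOver X) (a : E' ⟶ E), σ E' = res M a (σ E)) (h : osec V 1 ∈ globSub V (oX X))
    (m : globSub V M) (hm : σ V = m) : globMap V (unitHom σ hσ) ⟨osec V 1, h⟩ = m := Subtype.ext (by
  show app (unitHom σ hσ) V (osec V 1) = m
  rw [app_unitHom, one_smul, hm])

attribute [local irreducible] globMap

omit [IsAffine V.obj.left.left] in
/-- Injectivity of the extension map passes to direct sums. -/
theorem gev_injective_sum {A B P : ModEt X} (p : P ⟶ A) (q : P ⟶ B) (i : A ⟶ P) (j : B ⟶ P)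
    (tot : p ≫ i + q ≫ j = 𝟙 P) (hA : Function.Injective (gev V A)) (hB : Function.Injective (gev V B)) :
    Function.Injective (gev V P) := by
  intro a b hab
  have h1 : (globMap V p).lTensor (Fn V) a = (globMap V p).lTensor (Fn V) b :=
    hA (((gev_globMap V p a).trans (congrArg (app p V) hab)).trans (gev_globMap V p b).symm)
  have h2 : (globMap V q).lTensor (Fn V) a = (globMap V q).lTensor (Fn V) b :=
    hB (((gev_globMap V q a).trans (congrArg (app q V) hab)).trans (gev_globMap V q b).symm)
  have e : (globMap V i).comp (globMap V p) + (globMap V j).comp (globMap V q) = LinearMap.id :=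
    ((congrArg₂ (· + ·) (globMap_comp p i).symm (globMap_comp q j).symm).trans (globMap_add _ _).symm).trans
      ((congrArg (globMap V) tot).trans (globMap_id P))
  have htot := lTensor_split (Q := Fn V) (globMap V i) (globMap V j) (globMap V p) (globMap V q) e
  exact (htot a).symm.trans ((congrArg₂ (· + ·) (congrArg ((globMap V i).lTensor (Fn V)) h1)
    (congrArg ((globMap V j).lTensor (Fn V)) h2)).trans (htot b))

omit [IsAffine V.obj.left.left] in
theorem lTensor_globMap_desc {A B P M : ModEt X} (i : A ⟶ P) (j : B ⟶ P) (θ : P ⟶ M) (φ : A ⟶ M) (φ' : B ⟶ M)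
    (h1 : i ≫ θ = φ) (h2 : j ≫ θ = φ') (w : Fn V ⊗[glRing V] globSub V A) (w' : Fn V ⊗[glRing V] globSub V B) :
    (globMap V θ).lTensor (Fn V) ((globMap V i).lTensor (Fn V) w + (globMap V j).lTensor (Fn V) w') =
      (globMap V φ).lTensor (Fn V) w + (globMap V φ').lTensor (Fn V) w' := by
  have e1 : (globMap V θ).comp (globMap V i) = globMap V φ := (globMap_comp i θ).symm.trans (congrArg (globMap V) h1)
  have e2 : (globMap V θ).comp (globMap V j) = globMap V φ' :=
    (globMap_comp j θ).symm.trans (congrArg (globMap V) h2)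
  exact lTensor_sum (Q := Fn V) (globMap V i) (globMap V j) (globMap V θ) (globMap V φ) (globMap V φ') e1 e2 w w'

omit [IsAffine V.obj.left.left] in
theorem lTensor_eq_zero_of_gev {K P M : ModEt X} (κ : K ⟶ P) (φ : P ⟶ M) (h : κ ≫ φ = 0)
    (hPi : Function.Injective (gev V P)) (w : Fn V ⊗[glRing V] globSub V P) (w' : Fn V ⊗[glRing V] globSub V K)
    (hw : app κ V (gev V K w') = gev V P w) : (globMap V φ).lTensor (Fn V) w = 0 := by
  have e : (globMap V κ).lTensor (Fn V) w' = w := hPi ((gev_globMap V κ w').trans hw)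
  have h0 : (globMap V φ).comp (globMap V κ) = 0 :=
    (globMap_comp κ φ).symm.trans ((congrArg (globMap V) h).trans (globMap_zero K M))
  exact lTensor_zero_of_comp (Q := Fn V) (globMap V κ) (globMap V φ) h0 w w' e

omit [IsAffine V.obj.left.left] in
theorem exists_kernel_section {P M : ModEt X} (φ : P ⟶ M) (x : sectModEt P V) (h : app φ V x = 0) :
    ∃ t : sectModEt (kernel φ) V, app (kernel.ι φ) V t = x := by
  let T : ShortComplex (ModEt X) := ShortComplex.mk (kernel.ι φ) φ (kernel.condition φ)
  have hex : T.Exact := ShortComplex.exact_of_f_is_kernel _ (kernelIsKernel φ)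
  have : Mono T.f := inferInstanceAs (Mono (kernel.ι φ))
  exact (app_exact hex V x).1 h

omit [IsAffine V.obj.left.left] in
theorem lTensor_eq_zero_of_kernel {P M : ModEt X} (φ : P ⟶ M) (hPi : Function.Injective (gev V P))
    (hs : Function.Surjective (gev V (kernel φ))) (w : Fn V ⊗[glRing V] globSub V P)
    (hz : gev V M ((globMap V φ).lTensor (Fn V) w) = 0) : (globMap V φ).lTensor (Fn V) w = 0 :=
  (exists_kernel_section φ (gev V P w) ((gev_globMap V φ w).symm.trans hz)).elim fun t ht => (hs t).elim fun w' hw' =>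
    lTensor_eq_zero_of_gev (kernel.ι φ) φ (kernel.condition φ) hPi w w' ((congrArg (app (kernel.ι φ) V) hw').trans ht)

include hV hH hne in
theorem gev_injective {M : ModEt X} (hM : BCAll M) : Function.Injective (gev V M) := by
  have key : ∀ z : Fn V ⊗[glRing V] globSub V M, ∃ (P : ModEt X) (φ : P ⟶ M) (w : Fn V ⊗[glRing V] globSub V P),
      BCAll P ∧ Function.Injective (gev V P) ∧ (globMap V φ).lTensor (Fn V) w = z := fun z => by
    induction z using TensorProduct.induction_on with
    | zero => exact ⟨oX X, 0, 0, bcAll_unit, gev_unit_injective, map_zero _⟩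
    | tmul b m =>
      obtain ⟨σ, hσ, hσV⟩ := exists_extend hV m.2
      refine ⟨oX X, unitHom σ hσ, b ⊗ₜ ⟨osec V 1, by rw [mem_globSub, res_osec, res_osec, map_one, map_one]⟩,
        bcAll_unit, gev_unit_injective, ?_⟩
      rw [LinearMap.lTensor_tmul]
      exact congrArg (b ⊗ₜ[glRing V] ·) (globMap_unitHom σ hσ _ m hσV)
    | add x y hx hy =>
      obtain ⟨P, φ, w, hP, hPi, rfl⟩ := hx
      obtain ⟨P', φ', w', hP', hPi', rfl⟩ := hy
      exact ⟨P ⊞ P', biprod.desc φ φ', _, bcAll_biprod hP hP',
        gev_injective_sum biprod.fst biprod.snd biprod.inl biprod.inr biprod.total hPi hPi',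
        lTensor_globMap_desc biprod.inl biprod.inr (biprod.desc φ φ') φ φ' (biprod.inl_desc φ φ')
          (biprod.inr_desc φ φ') w w'⟩
  refine (injective_iff_map_eq_zero _).2 fun z hz => ?_
  obtain ⟨P, φ, w, hP, hPi, rfl⟩ := key z
  have hK : BCAll (kernel φ) := bcAll_kernel φ hP hM
  exact lTensor_eq_zero_of_kernel φ hPi (gev_surjective hV hH hne hK) w hz

end Groth.Agent.EtQC.Serre
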