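import Groth.Agent.EtQC.Glob.AffineDim
import Groth.Agent.EtQC.Glob.Bound
import Groth.Agent.EtQC.Glob.SymBound
import Groth.Agent.EtQC.UnionFT

/-!
# Global sections of quasi-coherent modules through an atlas
-/

set_option autoImplicit false
set_option backward.isDefEq.respectTransparency false
set_option backward.isDefEq.respectTransparency.types false

universe u

set_option maxHeartbeats 800000

open CategoryTheory CategoryTheory.Limits AlgebraicGeometry Opposite Abelian AlgSp
open scoped TensorProduct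
open Groth.Agent.EtQC.Glob

namespace Groth.Agent.EtQC.Serre

variable {S : Scheme.{u}} {X : Sp S} (V : EtOver X)

/-- The ring of functions on the atlas which descend. -/
noncomputable abbrev glRing : Subring (Fn V) :=
  RingHom.eqLocus (fmap (EtOver.prodFst V V)) (fmap (EtOver.prodSnd V V))

/-- The sections on the atlas which descend. -/
noncomputable def globSub (M : ModEt X) : Submodule (glRing V) (sectModEt M V) where
  carrier := {m | res M (EtOver.prodFst V V) m = res M (EtOver.prodSnd V V) m}
  zero_mem' := by simp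
  add_mem' {a b} ha hb := by
    show res M _ (a + b) = res M _ (a + b)
    rw [map_add, map_add]
    exact congrArg₂ (· + ·) ha hb
  smul_mem' c m hm := by
    show res M _ ((c : Fn V) • m) = res M _ ((c : Fn V) • m)
    rw [res_smul, res_smul]
    exact congrArg₂ (· • ·) c.2 hm

theorem mem_globSub {M : ModEt X} (m : sectModEt M V) :
    m ∈ globSub V M ↔ res M (EtOver.prodFst V V) m = res M (EtOver.prodSnd V V) m := Iff.rfl

theorem app_mem_globSub {M N : ModEt X} (φ : M ⟶ N) {m : sectModEt M V} (hm : m ∈ globSub V M) :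
    app φ V m ∈ globSub V N := by
  rw [mem_globSub] at hm ⊢
  rw [← app_res, ← app_res, hm]

theorem exists_prod_lift {E E' T : EtOver X} (a : T ⟶ E) (b : T ⟶ E') :
    ∃ t : T ⟶ EtOver.prodObj E E', t ≫ EtOver.prodFst E E' = a ∧ t ≫ EtOver.prodSnd E E' = b := by
  obtain ⟨t, h1, h2⟩ := BinaryFan.IsLimit.lift' (EtOver.prodIsLimit E E') a b
  exact ⟨t, h1, h2⟩

theorem globSub_res {M : ModEt X} {m : sectModEt M V} (hm : m ∈ globSub V M) {T : EtOver X} (a b : T ⟶ V) :
    res M a m = res M b m := by
  obtain ⟨t, h1', h2'⟩ := exists_prod_lift a b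
  rw [← h1', ← h2', res_comp, res_comp, (mem_globSub V m).1 hm]

/-- The map from the scalar extension of the descending sections. -/
noncomputable def gev (M : ModEt X) : Fn V ⊗[glRing V] globSub V M →ₗ[glRing V] sectModEt M V :=
  TensorProduct.lift (LinearMap.mk₂ (glRing V) (fun (b : Fn V) (m : globSub V M) => b • (m : sectModEt M V))
    (fun b b' m => add_smul b b' _) (fun c b m => mul_smul (c : Fn V) b _)
    (fun b m m' => smul_add b _ _) (fun c b m => smul_comm b (c : Fn V) _))

theorem gev_tmul (M : ModEt X) (b : Fn V) (m : globSub V M) : gev V M (b ⊗ₜ m) = b • (m : sectModEt M V) := rfl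

/-- Morphisms act on descending sections. -/
noncomputable def globMap {M N : ModEt X} (φ : M ⟶ N) : globSub V M →ₗ[glRing V] globSub V N where
  toFun m := ⟨app φ V m, app_mem_globSub V φ m.2⟩
  map_add' a b := Subtype.ext (map_add _ _ _)
  map_smul' c m := Subtype.ext (map_smul (app φ V) (c : Fn V) (m : sectModEt M V))

theorem gev_globMap {M N : ModEt X} (φ : M ⟶ N) (z : Fn V ⊗[glRing V] globSub V M) :
    gev V N ((globMap V φ).lTensor (Fn V) z) = app φ V (gev V M z) := by
  induction z using TensorProduct.induction_on with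
  | zero => simp
  | add x y hx hy => simp only [map_add, hx, hy]
  | tmul b m =>
    rw [LinearMap.lTensor_tmul, gev_tmul, gev_tmul, map_smul]
    rfl

variable {V} (hV : RepWith @Surjective V.obj.hom)

include hV in
theorem exists_cover_prod (E : EtOver X) (x : ↥E.obj.left.left) :
    x ∈ Set.range (EtOver.prodFst E V).hom.left.left := by
  haveI : Surjective (V.property.1.snd E.obj.hom).left := hV.2 _ _ _ (V.property.1.isPullback E.obj.hom)
  exact (V.property.1.snd E.obj.hom).left.surjective x

include hV in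
/-- A descending section spreads to all objects. -/
theorem exists_extend {M : ModEt X} {m : sectModEt M V} (hm : m ∈ globSub V M) :
    ∃ σ : ∀ E : EtOver X, sectModEt M E, (∀ (E E' : EtOver X) (a : E' ⟶ E), σ E' = res M a (σ E)) ∧ σ V = m := by
  have key : ∀ E : EtOver X, ∃ s : sectModEt M E, ∀ (T : EtOver X) (a : T ⟶ E) (b : T ⟶ V),
      res M a s = res M b m := by
    intro E
    obtain ⟨s, hs⟩ := exists_glue M (ι := PUnit.{u + 2}) (fun _ => EtOver.prodObj E V)
      (fun _ => EtOver.prodFst E V) (fun x => ⟨PUnit.unit, exists_cover_prod hV E x⟩)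
      (fun _ => res M (EtOver.prodSnd E V) m) fun _ _ => by
        rw [← res_comp, ← res_comp]
        exact globSub_res V hm _ _
    refine ⟨s, fun T a b => ext_of_cover M (fun _ : PUnit.{1} => EtOver.prodObj T V) (fun _ => EtOver.prodFst T V)
      (fun x => ⟨PUnit.unit, exists_cover_prod hV T x⟩) fun _ => ?_⟩
    obtain ⟨t, h1', h2'⟩ := exists_prod_lift (EtOver.prodFst T V ≫ a) (EtOver.prodSnd T V)
    rw [← res_comp, ← res_comp, ← h1', res_comp, hs PUnit.unit, ← res_comp, h2']
    exact globSub_res V hm _ _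
  choose σ hσ using key
  refine ⟨σ, fun E E' a => ?_, ?_⟩
  · refine ext_of_cover M (fun _ : PUnit.{1} => EtOver.prodObj E' V) (fun _ => EtOver.prodFst E' V)
      (fun x => ⟨PUnit.unit, exists_cover_prod hV E' x⟩) fun _ => ?_
    rw [hσ E' _ _ (EtOver.prodSnd E' V), ← res_comp, hσ E _ _ (EtOver.prodSnd E' V)]
  · have h := hσ V V (𝟙 V) (𝟙 V)
    rwa [res_id, res_id] at h

include hV in
/-- Descending sections correspond to maps out of the integers. -/
theorem exists_zc_hom {M : ModEt X} {m : sectModEt M V} (hm : m ∈ globSub V M) :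
    ∃ φ : zc X ⟶ (toAbEt X).obj M, glob φ V = m := by
  obtain ⟨σ, hσ, hσV⟩ := exists_extend hV hm
  obtain ⟨φ, hφ⟩ := exists_glob (G := (toAbEt X).obj M) σ hσ
  exact ⟨φ, (hφ V).trans hσV⟩

theorem glob_mem_globSub {M : ModEt X} (φ : zc X ⟶ (toAbEt X).obj M) : glob φ V ∈ globSub V M := by
  rw [mem_globSub]
  exact (glob_res φ (EtOver.prodFst V V)).symm.trans (glob_res φ (EtOver.prodSnd V V))

include hV in
/-- Vanishing of the first cohomology of the kernel lifts descending sections. -/
theorem exists_lift_glob {T : ShortComplex (ModEt X)} (hT : T.ShortExact)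
    (h1 : Subsingleton (HModEt X T.X₁ 1)) {n : sectModEt T.X₃ V} (hn : n ∈ globSub V T.X₃) :
    ∃ m ∈ globSub V T.X₂, app T.g V m = n := by
  obtain ⟨ψ, hψ⟩ := exists_zc_hom hV hn
  have hT' : (T.map (toAbEt X)).ShortExact := hT.map_of_exact (toAbEt X)
  obtain ⟨x, hx⟩ := Ext.covariant_sequence_exact₃ (zc X) hT' (Ext.mk₀ ψ) (rfl : 0 + 1 = 1)
    (Subsingleton.elim (α := Ext (zc X) ((toAbEt X).obj T.X₁) 1) _ _)
  obtain ⟨φ, rfl⟩ := (Ext.mk₀_bijective _ _).2 x
  rw [Ext.mk₀_comp_mk₀] at hx
  refine ⟨glob φ V, glob_mem_globSub φ, ?_⟩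
  rw [← hψ, ← (Ext.mk₀_bijective _ _).1 hx, glob_comp]
  rfl

end Groth.Agent.EtQC.Serre
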