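import Groth.Agent.EtQC.Serre.Gen
import Groth.Agent.EtQC.PullExact
import Groth.Agent.EtQC.Colim
import Groth.Agent.EtQC.PushQcqs
import Groth.Agent.AlgSpDec.LimDescentDiag
import Groth.Agent.AlgSpPts.OpenSub
import Mathlib.RingTheory.Flat.EquationalCriterion

/-!
# The ring of descending functions
-/

set_option autoImplicit false
set_option backward.isDefEq.respectTransparency false
set_option backward.isDefEq.respectTransparency.types false

universe u

set_option maxHeartbeats 800000

open CategoryTheory CategoryTheory.Limits AlgebraicGeometry Opposite AlgSp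
open scoped TensorProduct

namespace Groth.Agent.EtQC.Serre

variable {S : Scheme.{u}} {X : Sp S}

theorem eq_zero_of_atlas [QuasiSeparatedSpace ↥S] (hqs : IsQuasiSeparatedSp X) {V : EtOver X}
    [IsAffine V.obj.left.left] (hV : RepWith @Surjective V.obj.hom) {Q : ModEt X} (hQ : BCAll Q)
    (h0 : ∀ s : sectModEt Q V, s = 0) (E : EtOver X) (s : sectModEt Q E) : s = 0 := by
  choose O hO hxO using fun z : ↥E.obj.left.left =>
    exists_isAffineOpen_mem_and_subset (x := z) (U := (⊤ : E.obj.left.left.Opens)) trivial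
  refine ext_of_cover Q (fun z => AlgSpDec.etOpen E (O z)) (fun z => AlgSpDec.etOpenι E (O z))
    (fun z => ⟨z, by rw [AlgSpDec.range_etOpenι]; exact (hxO z).1⟩) fun z => ?_
  rw [map_zero]
  haveI : IsAffine (AlgSpDec.etOpen E (O z)).obj.left.left := hO z
  obtain ⟨n, P, a, b, hP, -, hc⟩ := exists_pieces V hqs (AlgSpDec.etOpen E (O z))
  refine ext_of_cover Q P a (hc hV) fun i => ?_
  rw [map_zero]
  letI := (fmap (b i)).toAlgebra
  obtain ⟨t, ht⟩ := (hQ V ‹_› (P i) (b i) (hP i)).2 (res Q (a i) (res Q (AlgSpDec.etOpenι E (O z)) s))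
  rw [← ht]
  clear ht
  induction t using TensorProduct.induction_on with
  | zero => exact map_zero _
  | add x y hx hy => rw [map_add, hx, hy, add_zero]
  | tmul c m => rw [gam_tmul, h0 m, map_zero, smul_zero]

theorem exists_sum_tmul {R M N : Type*} [CommRing R] [AddCommGroup M] [Module R M] [AddCommGroup N] [Module R N]
    (z : M ⊗[R] N) : ∃ (k : ℕ) (y : Fin k → M) (m : Fin k → N), ∑ j, y j ⊗ₜ[R] m j = z := by
  induction z using TensorProduct.induction_on with
  | zero => exact ⟨0, Fin.elim0, Fin.elim0, by simp⟩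
  | tmul a b => exact ⟨1, fun _ => a, fun _ => b, by simp⟩
  | add x y hx hy =>
    obtain ⟨k, a, b, rfl⟩ := hx
    obtain ⟨k', a', b', rfl⟩ := hy
    exact ⟨k + k', Fin.append a a', Fin.append b b', by simp [Fin.sum_univ_add]⟩

theorem addHom_ext {R M N P : Type*} [CommRing R] [AddCommGroup M] [Module R M] [AddCommGroup N] [Module R N]
    [AddCommGroup P] (F G : M ⊗[R] N →+ P) (h : ∀ a b, F (a ⊗ₜ b) = G (a ⊗ₜ b)) (x : M ⊗[R] N) : F x = G x := by
  induction x using TensorProduct.induction_on with
  | zero => rw [map_zero, map_zero]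
  | add x y hx hy => rw [map_add, map_add, hx, hy]
  | tmul a b => exact h a b

theorem hom_sum_tmul {R M N P : Type*} [CommRing R] [AddCommGroup M] [Module R M] [AddCommGroup N] [Module R N]
    [AddCommGroup P] [Module R P] (F : M ⊗[R] N →ₗ[R] P) {k : ℕ} (y : Fin k → M) (m : Fin k → N) :
    F (∑ j, y j ⊗ₜ[R] m j) = ∑ j, F (y j ⊗ₜ[R] m j) :=
  map_sum F _ _

theorem app_finsum {A B : ModEt X} (φ : A ⟶ B) (W : EtOver X) {ι : Type} (s : Finset ι)
    (f : ι → sectModEt A W) : app φ W (∑ i ∈ s, f i) = ∑ i ∈ s, app φ W (f i) :=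
  map_sum (app φ W).toAddMonoidHom f s

theorem osec_sum (W : EtOver X) {ι : Type} (s : Finset ι) (f : ι → Fn W) :
    osec W (∑ i ∈ s, f i) = ∑ i ∈ s, osec W (f i) :=
  map_sum (AddMonoidHom.mk' (osec W) (osec_add W)) f s

section Flat

theorem hasFiniteBiproducts_modEt : HasFiniteBiproducts (ModEt X) := Abelian.hasFiniteBiproducts

attribute [local instance] hasFiniteBiproducts_modEt

variable {V : EtOver X} [IsAffine V.obj.left.left] (hV : RepWith @Surjective V.obj.hom)
  (hH : ∀ K : ModEt X, BCAll K → Subsingleton (HModEt X K 1))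
  (hne : ∀ M : ModEt X, BCAll M → (∀ m ∈ globSub V M, m = 0) → ∀ s : sectModEt M V, s = 0)

/-- A row of descending functions as a morphism of free modules. -/
noncomputable def rowHom {n : ℕ} (σ : Fin n → ∀ E : EtOver X, sectModEt (oX X) E)
    (hσ : ∀ i (E E' : EtOver X) (a : E' ⟶ E), σ i E' = res (oX X) a (σ i E)) :
    (⨁ fun _ : Fin n => oX X) ⟶ oX X :=
  biproduct.desc fun i => unitHom (σ i) (hσ i)

theorem bcAll_free (n : ℕ) : BCAll (⨁ fun _ : Fin n => oX X) :=
  haveI : (⨁ fun _ : Fin n => oX X : ModEt X).IsQuasicoherent :=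
    isQuasicoherent_cofan (fun _ : ULift.{u + 1} (Fin n) => oX X) (fun _ => bcAll_unit)
      (Cofan.mk (⨁ fun _ : Fin n => oX X) fun i => biproduct.ι (fun _ : Fin n => oX X) i.down)
      (mkCofanColimit _ (fun c => biproduct.desc fun i => c.inj ⟨i⟩) (fun c i => biproduct.ι_desc _ _) fun c m hm =>
        biproduct.hom_ext' _ _ fun i => (hm ⟨i⟩).trans (biproduct.ι_desc (fun i => c.inj ⟨i⟩) i).symm)
  bcAll_of_isQuasicoherent _

omit [IsAffine V.obj.left.left] in
theorem app_sum {A B : ModEt X} {ι : Type} (s : Finset ι) (f : ι → (A ⟶ B)) (W : EtOver X) (x : sectModEt A W) :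
    app (∑ i ∈ s, f i) W x = ∑ i ∈ s, app (f i) W x := by
  classical
  induction s using Finset.induction_on with
  | empty => rfl
  | insert i s hi ih =>
    rw [Finset.sum_insert hi, Finset.sum_insert hi, ← ih]
    rfl

include hV hH hne in
/-- The functions on the atlas are flat over the descending ones. -/
theorem flat_fn : Module.Flat (glRing V) (Fn V) := by
  refine Module.Flat.of_forall_isTrivialRelation fun {n f x} h => ?_
  choose σ hσ hσV using fun i : Fin n => exists_extend hV (M := oX X) (m := osec V (f i).1) (by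
    rw [mem_globSub, res_osec, res_osec]; exact congrArg _ (f i).2)
  let φ := rowHom σ hσ
  let ιP : Fin n → (oX X ⟶ ⨁ fun _ : Fin n => oX X) := fun i => biproduct.ι (fun _ : Fin n => oX X) i
  let πP : Fin n → ((⨁ fun _ : Fin n => oX X) ⟶ oX X) := fun i => biproduct.π (fun _ : Fin n => oX X) i
  let v : sectModEt (⨁ fun _ : Fin n => oX X) V := ∑ i, app (ιP i) V (osec V (x i))
  have hφ : ∀ i (a : Fn V), app φ V (app (ιP i) V (osec V a)) = osec V ((f i).1 * a) := fun i a => by
    rw [← app_comp', show ιP i ≫ φ = unitHom (σ i) (hσ i) from biproduct.ι_desc _ _, app_unitHom, hσV, osec_smul,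
      mul_comm]
  have hv : ∀ j, app (πP j) V v = osec V (x j) := fun j => by
    rw [map_sum, Finset.sum_eq_single j]
    · rw [← app_comp', show ιP j ≫ πP j = 𝟙 _ from biproduct.ι_π_self _ _]
      rfl
    · intro i _ hi
      rw [← app_comp', show ιP i ≫ πP j = 0 from biproduct.ι_π_ne _ hi]
      rfl
    · simp
  have hv0 : app φ V v = 0 := by
    rw [map_sum]
    refine (Finset.sum_congr rfl fun i _ => hφ i (x i)).trans ?_
    rw [← show osec V (∑ i, (f i).1 * x i) = ∑ i, osec V ((f i).1 * x i) from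
      map_sum (AddMonoidHom.mk' (osec V) (osec_add V)) _ _]
    rw [show ∑ i, (f i).1 * x i = 0 from h]
    rfl
  obtain ⟨t, ht⟩ := exists_kernel_section φ v hv0
  obtain ⟨z, rfl⟩ := gev_surjective hV hH hne (bcAll_kernel φ (bcAll_free n) bcAll_unit) t
  obtain ⟨k, y, m, rfl⟩ := exists_sum_tmul z
  choose a ha using fun i j => osec_surjective V (app (πP i) V (app (kernel.ι φ) V (m j).1))
  have hamem : ∀ i j, a i j ∈ glRing V := fun i j => by
    have h1 := app_mem_globSub V (πP i) (app_mem_globSub V (kernel.ι φ) (m j).2)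
    rw [← ha, mem_globSub, res_osec, res_osec] at h1
    exact osec_injective _ h1
  refine ⟨k, fun i j => ⟨a i j, hamem i j⟩, y, fun i => ?_, fun j => Subtype.ext ?_⟩
  · refine osec_injective V ?_
    refine ((hv i).symm.trans ((congrArg (app (πP i) V) ht.symm).trans ?_)).trans
      (osec_sum V Finset.univ fun j => (a i j) * y j).symm
    rw [hom_sum_tmul, app_finsum, app_finsum]
    refine Finset.sum_congr rfl fun j _ => ?_
    rw [gev_tmul, map_smul, map_smul, ← ha, osec_smul, mul_comm]
  · refine osec_injective V ?_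
    have hw : app φ V (app (kernel.ι φ) V (m j).1) = 0 := by
      rw [← app_comp', kernel.condition]
      rfl
    have hid : app (kernel.ι φ) V (m j).1 = ∑ i, app (ιP i) V (osec V (a i j)) := by
      have htot : (∑ i : Fin n, biproduct.π (fun _ : Fin n => oX X) i ≫ biproduct.ι (fun _ : Fin n => oX X) i)
          = 𝟙 _ := biproduct.total
      have h2 := congrArg (fun F => app F V (app (kernel.ι φ) V (m j).1)) htot
      rw [app_sum] at h2
      refine h2.symm.trans (Finset.sum_congr rfl fun i _ => ?_)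
      exact (app_comp' _ _ V _).trans (congrArg (app (ιP i) V) (ha i j).symm)
    rw [hid, app_finsum] at hw
    refine Eq.trans ?_ hw
    rw [AddSubmonoidClass.coe_finsetSum]
    exact (osec_sum V _ _).trans (Finset.sum_congr rfl fun i _ => (hφ i _).symm)

variable [QuasiSeparatedSpace ↥S] (hqs : IsQuasiSeparatedSp X)

include hV hH hne hqs in
/-- The functions on the atlas are faithfully flat over the descending ones. -/
theorem faithfullyFlat_fn : Module.FaithfullyFlat (glRing V) (Fn V) := by
  haveI := flat_fn hV hH hne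
  refine ⟨fun {m} hm htop => ?_⟩
  have h1 : (1 : Fn V) ∈ m • (⊤ : Submodule (glRing V) (Fn V)) := by rw [htop]; exact Submodule.mem_top
  have key : ∀ y ∈ m • (⊤ : Submodule (glRing V) (Fn V)),
      ∃ (n : ℕ) (f : Fin n → m) (b : Fin n → Fn V), ∑ i, ((f i).1.1 : Fn V) * b i = y := fun y hy => by
    refine Submodule.smul_induction_on hy (fun r hr b _ => ⟨1, fun _ => ⟨r, hr⟩, fun _ => b, by simp; rfl⟩)
      fun x y hx hy => ?_
    obtain ⟨n, f, b, rfl⟩ := hx
    obtain ⟨n', f', b', rfl⟩ := hy
    exact ⟨n + n', Fin.append f f', Fin.append b b', by simp [Fin.sum_univ_add]⟩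
  obtain ⟨n, f, b, hfb⟩ := key 1 h1
  choose σ hσ hσV using fun i : Fin n => exists_extend hV (M := oX X) (m := osec V (f i).1.1) (by
    rw [mem_globSub, res_osec, res_osec]; exact congrArg _ (f i).1.2)
  let φ := rowHom σ hσ
  let ιP : Fin n → (oX X ⟶ ⨁ fun _ : Fin n => oX X) := fun i => biproduct.ι (fun _ : Fin n => oX X) i
  have hQ := bcAll_cokernel φ (bcAll_free n) bcAll_unit
  have hφ : ∀ i (a : Fn V), app φ V (app (ιP i) V (osec V a)) = osec V ((f i).1.1 * a) := fun i a => by
    rw [← app_comp', show ιP i ≫ φ = unitHom (σ i) (hσ i) from biproduct.ι_desc _ _, app_unitHom, hσV, osec_smul,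
      mul_comm]
  have hone : app φ V (∑ i, app (ιP i) V (osec V (b i))) = osec V 1 := by
    rw [map_sum, ← hfb]
    exact (Finset.sum_congr rfl fun i _ => hφ i (b i)).trans
      (map_sum (AddMonoidHom.mk' (osec V) (osec_add V)) _ _).symm
  let T := ShortComplex.mk φ (cokernel.π φ) (cokernel.condition φ)
  have hz : ∀ s : sectModEt (oX X) V, app (cokernel.π φ) V s = 0 := fun s => by
    obtain ⟨a, rfl⟩ := osec_surjective V s
    rw [← mul_one a, ← osec_smul, map_smul, ← hone, ← app_comp', cokernel.condition]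
    exact smul_zero _
  have hepi : Epi φ := by
    refine Preadditive.epi_of_cokernel_zero ?_
    refine SheafOfModules.hom_ext (PresheafOfModules.hom_ext fun E => ModuleCat.hom_ext (LinearMap.ext fun s => ?_))
    refine eq_zero_of_atlas hqs hV hQ (fun t => ?_) E.unop _
    let T' := ShortComplex.mk (kernel.ι (cokernel.π φ)) (cokernel.π φ) (kernel.condition _)
    obtain ⟨s', rfl⟩ := app_surjective (T := T') (ShortComplex.exact_of_f_is_kernel _ (kernelIsKernel _))
      (bcAll_kernel _ bcAll_unit hQ) (E := V) t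
    exact hz s'
  let T₀ := ShortComplex.mk (kernel.ι φ) φ (kernel.condition φ)
  have hT₀ : T₀.ShortExact := shortExact_kernel φ
  obtain ⟨w, hw, hw1⟩ := exists_lift_glob hV hT₀ (hH _ (bcAll_kernel φ (bcAll_free n) bcAll_unit))
    (n := osec V 1) (by rw [mem_globSub, res_osec, res_osec, map_one, map_one])
  choose a ha using fun i : Fin n => osec_surjective V
    (app (biproduct.π (fun _ : Fin n => oX X) i) V w)
  have hamem : ∀ i, a i ∈ glRing V := fun i => by
    have h2 := app_mem_globSub V (biproduct.π (fun _ : Fin n => oX X) i) hw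
    rw [← ha, mem_globSub, res_osec, res_osec] at h2
    exact osec_injective _ h2
  have hid : w = ∑ i, app (ιP i) V (osec V (a i)) := by
    have htot : (∑ i : Fin n, biproduct.π (fun _ : Fin n => oX X) i ≫ biproduct.ι (fun _ : Fin n => oX X) i)
          = 𝟙 _ := biproduct.total
    have h2 := congrArg (fun F => app F V w) htot
    rw [app_sum] at h2
    refine h2.symm.trans (Finset.sum_congr rfl fun i _ => ?_)
    rw [app_comp', ha]
  refine hm.ne_top ((Ideal.eq_top_iff_one m).2 ?_)
  have he : (∑ i, (f i).1 * (⟨a i, hamem i⟩ : glRing V)) = 1 := Subtype.ext (osec_injective V (by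
    rw [AddSubmonoidClass.coe_finsetSum]
    refine Eq.trans ?_ hw1
    rw [hid, map_sum]
    exact (map_sum (AddMonoidHom.mk' (osec V) (osec_add V)) _ _).trans (Finset.sum_congr rfl fun i _ => (hφ i _).symm)))
  rw [← he]
  exact Ideal.sum_mem _ fun i _ => Ideal.mul_mem_right _ _ (f i).2

end Flat

section Push

variable {Z : Over S} [IsAffine Z.left]

/-- The final object over a scheme. -/
noncomputable def top (Z : Over S) : EtOver ((yon S).obj Z) := EtOver.mk (𝟙 _) (repWith_id (S := S) @Etale Z)

/-- The map to the final object. -/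
noncomputable def toTop (E : EtOver ((yon S).obj Z)) : E ⟶ top Z :=
  EtOver.homMk ((yon S).preimage E.obj.hom) (by
    show (yon S).map ((yon S).preimage E.obj.hom) ≫ 𝟙 _ = E.obj.hom
    rw [Functor.map_preimage, Category.comp_id])

omit [IsAffine Z.left] in
theorem top_hom_ext {E : EtOver ((yon S).obj Z)} (g g' : E ⟶ top Z) : g = g' := by
  refine EtOver.hom_ext _ _ ((yon S).map_injective ?_)
  have h1 : (yon S).map g.hom.left ≫ 𝟙 _ = E.obj.hom := EtOver.w g
  have h2 : (yon S).map g'.hom.left ≫ 𝟙 _ = E.obj.hom := EtOver.w g'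
  rw [Category.comp_id] at h1 h2
  exact h1.trans h2.symm

variable {z : (yon S).obj Z ⟶ X} (hf : Representable z) (V : EtOver X) (p : Z ⟶ V.obj.left)
  (hz : (yon S).map p ≫ V.obj.hom = z)

omit [IsAffine Z.left] in
include hz in
/-- Descending functions pull back to the base change in only one way. -/
theorem bcFun_descends (a : glRing V) :
    fmap (toTop (EtOver.bcObj hf V)) (p.left.appTop.hom (a : Fn V)) = bcFun hf V a := by
  let W := EtOver.bcObj hf V
  let m : W.obj.left ⟶ V.property.1.pullback V.obj.hom :=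
    V.property.1.lift' ((toTop W).hom.left ≫ p) (EtOver.bcπ hf V) (by
      show _ = (yon S).map (EtOver.bcπ hf V) ≫ V.obj.hom
      rw [Functor.map_comp, Category.assoc, hz]
      show (yon S).map ((yon S).preimage W.obj.hom) ≫ z = _
      rw [Functor.map_preimage]
      exact (EtOver.isPullback_bcObj hf V).w)
  have h1 : m ≫ (EtOver.prodSnd V V).hom.left = (toTop W).hom.left ≫ p :=
    Functor.relativelyRepresentable.lift'_fst _ _ _ _
  have h2 : m ≫ (EtOver.prodFst V V).hom.left = EtOver.bcπ hf V :=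
    Functor.relativelyRepresentable.lift'_snd _ _ _ _
  have key : m.left.appTop.hom (fmap (EtOver.prodSnd V V) (a : Fn V)) =
      m.left.appTop.hom (fmap (EtOver.prodFst V V) (a : Fn V)) := congrArg _ a.2.symm
  refine Eq.trans ?_ (key.trans ?_)
  · exact congrArg (fun k : W.obj.left ⟶ V.obj.left => k.left.appTop.hom (a : Fn V)) h1.symm
  · exact congrArg (fun k : W.obj.left ⟶ V.obj.left => k.left.appTop.hom (a : Fn V)) h2

variable [Algebra (glRing V) Γ(Z.left, ⊤)]
  (hp : ∀ a : glRing V, algebraMap (glRing V) Γ(Z.left, ⊤) a = p.left.appTop.hom (a : Fn V))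

/-- Functions on the scheme give descending sections of the direct image. -/
noncomputable def zsec : Γ(Z.left, ⊤) →ₗ[glRing V] globSub V ((pushModEt hf).obj (oX _)) where
  toFun c := ⟨show sectModEt ((pushModEt hf).obj (oX _)) V from
      osec (EtOver.bcObj hf V) (fmap (toTop (EtOver.bcObj hf V)) c), by
    rw [mem_globSub]
    show res (oX _) (EtOver.bcMap hf (EtOver.prodFst V V)) _ = res (oX _) (EtOver.bcMap hf (EtOver.prodSnd V V)) _
    rw [res_osec, res_osec, ← fmap_comp, ← fmap_comp]
    exact congrArg (fun g => osec _ (fmap g c)) (top_hom_ext _ _)⟩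
  map_add' c c' := Subtype.ext (by
    show osec _ (fmap (toTop (EtOver.bcObj hf V)) (c + c')) =
      osec _ (fmap (toTop (EtOver.bcObj hf V)) c) + osec _ (fmap (toTop (EtOver.bcObj hf V)) c')
    rw [map_add, osec_add])
  map_smul' a c := Subtype.ext (by
    show (show sectModEt ((pushModEt hf).obj (oX _)) V from
        osec (EtOver.bcObj hf V) (fmap (toTop (EtOver.bcObj hf V)) (a • c))) =
      (a : Fn V) • (show sectModEt ((pushModEt hf).obj (oX _)) V from
        osec (EtOver.bcObj hf V) (fmap (toTop (EtOver.bcObj hf V)) c))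
    refine Eq.trans ?_ (push_smul hf (oX _) V (a : Fn V) _).symm
    rw [osec_smul, Algebra.smul_def, hp, map_mul, bcFun_descends hf V p hz])

omit [IsAffine Z.left] in
theorem exists_cover_top (hV : RepWith @Surjective V.obj.hom) (x : ↥(top Z).obj.left.left) :
    x ∈ Set.range (toTop (EtOver.bcObj hf V)).hom.left.left := by
  haveI : Surjective ((yon S).preimage (EtOver.bcObj hf V).obj.hom).left :=
    hV.2 z ((yon S).map (EtOver.bcπ hf V)) _ (by
      rw [Functor.map_preimage]
      exact (EtOver.isPullback_bcObj hf V).flip)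
  exact ((yon S).preimage (EtOver.bcObj hf V).obj.hom).left.surjective x

omit [IsAffine Z.left] in
include hz hp in
theorem zsec_bijective (hV : RepWith @Surjective V.obj.hom) : Function.Bijective (zsec hf V p hz hp) := by
  refine ⟨fun c c' h => ?_, fun s => ?_⟩
  · refine osec_injective (top Z) (ext_of_cover (oX _) (fun _ : PUnit.{1} => EtOver.bcObj hf V)
      (fun _ => toTop _) (fun x => ⟨PUnit.unit, exists_cover_top hf V hV x⟩) fun _ => ?_)
    rw [res_osec, res_osec]
    exact congrArg Subtype.val h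
  · obtain ⟨t, ht⟩ := exists_glue (oX _) (ι := PUnit.{u + 2}) (fun _ => EtOver.bcObj hf V) (fun _ => toTop _)
      (fun x => ⟨PUnit.unit, exists_cover_top hf V hV x⟩)
      (fun _ => (show sectModEt (oX _) (EtOver.bcObj hf V) from s.1)) fun _ _ => by
        obtain ⟨P, h, a₁, a₂, e₁, e₂⟩ := exists_bc_span hf
          (EtOver.pullbackFst (toTop (EtOver.bcObj hf V)) (toTop (EtOver.bcObj hf V)))
          (EtOver.pullbackSnd (toTop (EtOver.bcObj hf V)) (toTop (EtOver.bcObj hf V)))
        rw [← e₁, ← e₂, res_comp, res_comp]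
        exact congrArg (res (oX _) h) (globSub_res V s.2 a₁ a₂)
    obtain ⟨c, rfl⟩ := osec_surjective (top Z) t
    refine ⟨c, Subtype.ext ?_⟩
    have h := ht PUnit.unit
    rwa [res_osec] at h

variable [IsAffine V.obj.left.left] [QuasiSeparatedSpace ↥S] (hA : IsAlgSpace X) (hqs : IsQuasiSeparatedSp X)
  [Algebra (glRing V) (Fn (EtOver.bcObj hf V))]
  (hW : ∀ a : glRing V, algebraMap (glRing V) (Fn (EtOver.bcObj hf V)) a = bcFun hf V a)

/-- Functions on the atlas and on the scheme multiplied on the base change. -/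
noncomputable def zmul : Fn V ⊗[glRing V] Γ(Z.left, ⊤) →ₐ[glRing V] Fn (EtOver.bcObj hf V) :=
  Algebra.TensorProduct.productMap
    { bcFun hf V with commutes' := fun a => (hW a).symm }
    { fmap (toTop (EtOver.bcObj hf V)) with
      commutes' := fun a => by
        show fmap (toTop (EtOver.bcObj hf V)) (algebraMap (glRing V) Γ(Z.left, ⊤) a) = _
        rw [hp, bcFun_descends hf V p hz, hW] }

omit [IsAffine Z.left] [IsAffine V.obj.left.left] [QuasiSeparatedSpace ↥S] in
theorem zmul_tmul (b : Fn V) (c : Γ(Z.left, ⊤)) :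
    zmul hf V p hz hp hW (b ⊗ₜ c) = bcFun hf V b * fmap (toTop (EtOver.bcObj hf V)) c := rfl

omit [IsAffine Z.left] [IsAffine V.obj.left.left] [QuasiSeparatedSpace ↥S] in
theorem gev_zsec_tmul (b : Fn V) (c : Γ(Z.left, ⊤)) :
    gev V ((pushModEt hf).obj (oX _)) ((zsec hf V p hz hp).lTensor (Fn V) (b ⊗ₜ c)) =
      (show sectModEt ((pushModEt hf).obj (oX _)) V from osec (EtOver.bcObj hf V)
        (zmul hf V p hz hp hW (b ⊗ₜ c))) := by
  rw [LinearMap.lTensor_tmul]
  exact (gev_tmul V _ b (zsec hf V p hz hp c)).trans ((push_smul hf (oX _) V b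
    (osec (EtOver.bcObj hf V) (fmap (toTop (EtOver.bcObj hf V)) c))).trans (osec_smul _ _ _))

omit [IsAffine Z.left] [IsAffine V.obj.left.left] [QuasiSeparatedSpace ↥S] in
theorem gev_zsec (x : Fn V ⊗[glRing V] Γ(Z.left, ⊤)) :
    gev V ((pushModEt hf).obj (oX _)) ((zsec hf V p hz hp).lTensor (Fn V) x) =
      (show sectModEt ((pushModEt hf).obj (oX _)) V from osec (EtOver.bcObj hf V)
        (zmul hf V p hz hp hW x)) :=
  addHom_ext
    ((gev V ((pushModEt hf).obj (oX _))).toAddMonoidHom.comp ((zsec hf V p hz hp).lTensor (Fn V)).toAddMonoidHom)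
    ((AddMonoidHom.mk' (fun t => (show sectModEt ((pushModEt hf).obj (oX _)) V from osec (EtOver.bcObj hf V) t))
      (osec_add (EtOver.bcObj hf V))).comp (zmul hf V p hz hp hW).toLinearMap.toAddMonoidHom)
    (gev_zsec_tmul hf V p hz hp hW) x

include hA hqs in
/-- The functions on the base change of the atlas. -/
theorem zmul_bijective (hV : RepWith @Surjective V.obj.hom)
    (hH : ∀ K : ModEt X, BCAll K → Subsingleton (HModEt X K 1))
    (hne : ∀ M : ModEt X, BCAll M → (∀ m ∈ globSub V M, m = 0) → ∀ s : sectModEt M V, s = 0) :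
    Function.Bijective (zmul hf V p hz hp hW) := by
  have hM : BCAll ((pushModEt hf).obj (oX ((yon S).obj Z))) := bcAll_push_qcqs hf
    (AlgSpPts.isQuasiCompactMor_of_qc_qs (IsAlgSpace.yon_obj Z) hA (AlgSpLib.isQuasiCompactSp_yon Z) hqs z)
    (AlgSpDec.isQuasiSeparatedMor_of_sp z ((AlgSpDec.isQuasiSeparatedSp_yon_iff' Z).2 inferInstance) hqs) bcAll_unit
  have hb : Function.Bijective fun x => gev V ((pushModEt hf).obj (oX _))
      ((zsec hf V p hz hp).lTensor (Fn V) x) :=
    Function.Bijective.comp ⟨gev_injective hV hH hne hM, gev_surjective hV hH hne hM⟩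
      ((LinearEquiv.ofBijective (zsec hf V p hz hp) (zsec_bijective hf V p hz hp hV)).lTensor (Fn V)).bijective
  refine ⟨fun x y h => hb.1 ?_, fun w => ?_⟩
  · exact (gev_zsec hf V p hz hp hW x).trans (((congrArg (fun t => (show sectModEt ((pushModEt hf).obj (oX _)) V from
      osec (EtOver.bcObj hf V) t)) h)).trans (gev_zsec hf V p hz hp hW y).symm)
  · obtain ⟨x, hx⟩ := hb.2 (show sectModEt ((pushModEt hf).obj (oX _)) V from osec (EtOver.bcObj hf V) w)
    exact ⟨x, osec_injective _ ((gev_zsec hf V p hz hp hW x).symm.trans hx)⟩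

end Push

end Groth.Agent.EtQC.Serre
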